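import Cfsg.Agent.ThreePrime89.Solv
import Cfsg.Agent.Lib.Components.Basic
import Cfsg.Agent.S2112

/-!
A component of order prime to three and an element of order three with solvable centralizer,
modulo the recognition of the Suzuki groups.
-/

set_option autoImplicit false
set_option linter.style.haveILetI false

namespace Cfsg.Agent.ThreePrime89

open Subgroup

universe u

theorem four_sq : ∀ b : Multiplicative (ZMod 2 × ZMod 2), b ^ 2 = 1 := by decide

/-- The statement of S2976 from the recognition of the Suzuki groups. -/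
theorem s2976_of (h : SimpleThree.{u}) {G : Type u} [Group G] [Finite G] (K : Subgroup G)
    (hK : Cfsg.IsComponent K) (h3 : ¬ 3 ∣ Nat.card ↥K) (y : G) (hy : orderOf y = 3)
    (hsol : Group.IsSolvable ↥(Subgroup.centralizer ({y} : Set G))) :
    (∃ (F : Type) (_ : Field F) (_ : Fintype F), Fintype.card F = 8 ∧
      Nonempty (↥K ⧸ Subgroup.center ↥K ≃* ↥(Cfsg.Lie.Sz F 4))) ∧
      y ∈ Subgroup.normalizer (K : Set G) ∧ (Cfsg.pCore 2 G = ⊥ → IsSimpleGroup ↥K) := by
  classical
  haveI := hsol
  set σ : MulAut G := MulAut.conj y with hσdef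
  have hσ : σ ^ 3 = 1 := by
    rw [hσdef, ← map_pow, orderOf_dvd_iff_pow_eq_one.1 hy.dvd, map_one]
  have hfix : ∀ x, σ x = x → x ∈ centralizer ({y} : Set G) := fun x hx => by
    rw [mem_centralizer_singleton_iff]
    exact (mul_inv_eq_iff_eq_mul.1 hx).symm
  have hFs : Group.IsSolvable (fixedPts σ) :=
    Group.isSolvable_of_isSolvable_injective (f := Subgroup.inclusion fun x hx => hfix x hx)
      (Subgroup.inclusion_injective _)
  have hns := Components.component_not_isSolvable hK
  have hnorm : y ∈ normalizer (K : Set G) := by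
    by_contra hy'
    have hne : K ≠ K.map σ.toMonoidHom := fun e =>
      hy' (Components.map_conj_eq_iff_mem_normalizer.1 e.symm)
    refine hns (isSolvable_of_orbit hσ K (fun a ha b hb => ?_) hFs)
    have h1 := Components.component_le_centralizer hK (Components.component_map_conj y hK) hne ha
    exact ((mem_centralizer_iff.1 h1) (σ b) ⟨b, hb, rfl⟩).symm
  have hinv : ∀ x ∈ K, σ x ∈ K := fun x hx => (mem_normalizer_iff.1 hnorm x).1 hx
  let α := subAut σ K hinv
  have hα : α ^ 3 = 1 := subAut_pow σ hσ K hinv
  let α' := quotAut (center K) α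
  have hα' : α' ^ 3 = 1 := by rw [← map_pow, hα, map_one]
  haveI : IsSimpleGroup (K ⧸ center K) := hK.2.2
  have hna : ∃ a b : K ⧸ center K, a * b ≠ b * a := by
    by_contra hc
    push Not at hc
    haveI hX : Group.IsSolvable (K ⧸ center K) := Group.isSolvable_of_comm hc
    haveI : Group.IsSolvable (center K) :=
      Group.isSolvable_of_comm fun a b => Subtype.ext (mem_center_iff.1 b.2 a)
    exact hns (Group.isSolvable_of_ker_le_range (center K).subtype
      (QuotientGroup.mk' (center K)) (by simp))
  have h3' : ¬ 3 ∣ Nat.card (K ⧸ center K) := fun hd => h3 (hd.trans (card_quotient_dvd_card _))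
  -- solvable fixed points on the quotient
  let D := (fixedPts α').comap (QuotientGroup.mk' (center K))
  haveI : Group.IsSolvable D := by
    let χ : D →* center K :=
      { toFun := fun d => ⟨(d : K)⁻¹ * α d, QuotientGroup.eq.1
          (show QuotientGroup.mk' (center K) (d : K) = QuotientGroup.mk' (center K) (α d) from
            d.2.symm)⟩
        map_one' := Subtype.ext (by simp)
        map_mul' := fun d e => Subtype.ext (by
          have hz : (d : K)⁻¹ * α d ∈ center K := QuotientGroup.eq.1
            (show QuotientGroup.mk' (center K) (d : K) = QuotientGroup.mk' (center K) (α d) from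
              d.2.symm)
          show ((d : K) * e)⁻¹ * α ((d : K) * e) = ((d : K)⁻¹ * α d) * ((e : K)⁻¹ * α e)
          rw [map_mul, mul_inv_rev]
          calc (e : K)⁻¹ * (d : K)⁻¹ * (α d * α e) = (e : K)⁻¹ * ((d : K)⁻¹ * α d) * α e := by group
            _ = ((d : K)⁻¹ * α d) * (e : K)⁻¹ * α e := by rw [mem_center_iff.1 hz _]
            _ = _ := by group) }
    haveI : Group.IsSolvable χ.ker := by
      let i : χ.ker →* centralizer ({y} : Set G) :=
        ((K.subtype.comp D.subtype).comp χ.ker.subtype).codRestrict _ fun d => hfix _ (by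
          have h1 : ((d : D) : K)⁻¹ * α ((d : D) : K) = 1 := congrArg Subtype.val d.2
          exact congrArg Subtype.val (inv_mul_eq_one.1 h1).symm)
      exact Group.isSolvable_of_isSolvable_injective (f := i) fun a b hab =>
        Subtype.ext (Subtype.ext (Subtype.ext (congrArg (fun z : centralizer ({y} : Set G) =>
          (z : G)) hab)))
    haveI : Group.IsSolvable (center K) :=
      Group.isSolvable_of_comm fun a b => Subtype.ext (mem_center_iff.1 b.2 a)
    exact Group.isSolvable_of_ker_le_range χ.ker.subtype χ (by simp)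
  have hfs : Group.IsSolvable (fixedPts α') := by
    refine Group.isSolvable_of_surjective (f := (((QuotientGroup.mk' (center K)).comp
      D.subtype).codRestrict _ fun d => d.2)) fun x => ?_
    obtain ⟨k, hk⟩ := QuotientGroup.mk'_surjective (center K) (x : K ⧸ center K)
    exact ⟨⟨k, show QuotientGroup.mk' (center K) k ∈ fixedPts α' from hk ▸ x.2⟩, Subtype.ext hk⟩
  obtain ⟨F, iF, iT, hF, ⟨e⟩⟩ := iso_eq_eight (h _ hna h3') h3' α' hα' hfs
  refine ⟨⟨F, iF, iT, hF, ⟨e⟩⟩, hnorm, fun hO => ?_⟩
  haveI : Fact (Nat.Prime 2) := ⟨Nat.prime_two⟩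
  obtain ⟨-, hmult⟩ := Schur.hasSchurMultiplier_congr e.symm (S2112.result hF)
  obtain ⟨π, hπ⟩ := hmult K (QuotientGroup.mk' (center K))
    ⟨QuotientGroup.mk'_surjective _, by simp, by
      haveI : Group.IsPerfect K := hK.2.1
      simp [Group.IsPerfect.commutator_eq_top]⟩
  have hp : IsPGroup 2 (center K) := by
    intro z
    refine ⟨1, ?_⟩
    obtain ⟨a, ha⟩ := hπ ⟨(z : K), by simp⟩
    have ha2 : a ^ 2 = 1 := four_sq a
    have h1 := congrArg π ha2
    rw [map_pow, ha, map_one] at h1
    have h5 : (z : K) ^ 2 = 1 := congrArg Subtype.val h1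
    exact Subtype.ext h5
  have hbot : center K = ⊥ := by
    have h1 := (map_mono (f := K.subtype) (Thompson.le_pCore (p := 2) inferInstance hp)).trans
      (Thompson.map_pCore_isSubnormal_le hK.1)
    rw [hO, le_bot_iff, Subgroup.map_eq_bot_iff_of_injective _ K.subtype_injective] at h1
    exact h1
  haveI : Nontrivial K := Components.nontrivial_of_isQuasisimple hK.2
  exact IsSimpleGroup.isSimpleGroup_of_surjective
    ((QuotientGroup.quotientMulEquivOfEq hbot).trans QuotientGroup.quotientBot).toMonoidHom
    ((QuotientGroup.quotientMulEquivOfEq hbot).trans QuotientGroup.quotientBot).surjective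

end Cfsg.Agent.ThreePrime89
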