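import Cfsg.Agent.ThreePrime89.Solv

/-!
A fixed-point-free symmetric group of degree three of automorphisms of a group of order prime to
three, modulo the recognition of the Suzuki groups.
-/

set_option autoImplicit false
set_option linter.style.haveILetI false

namespace Cfsg.Agent.ThreePrime89

open Subgroup

universe u

theorem perm3_cases : ∀ a b : Equiv.Perm (Fin 3), a ^ 3 = 1 → a ≠ 1 →
    b * a * b⁻¹ = a ∨ b * a * b⁻¹ = a ^ 2 := by decide

theorem perm3_gen : ∀ a x : Equiv.Perm (Fin 3), a ^ 3 = 1 → a ≠ 1 →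
    x ∈ ([1, a, a ^ 2, Equiv.swap 0 1, Equiv.swap 0 1 * a, Equiv.swap 0 1 * a ^ 2] :
      List (Equiv.Perm (Fin 3))) := by decide

/-- The statement of S3040 from the recognition of the Suzuki groups. -/
theorem s3040_of (h : SimpleThree.{u}) {G : Type u} [Group G] [Finite G]
    (h3 : ¬ 3 ∣ Nat.card G) (Sig : Subgroup (MulAut G))
    (hS3 : Nonempty (↥Sig ≃* Equiv.Perm (Fin 3)))
    (hfpf : ∀ g : G, (∀ σ ∈ Sig, σ g = g) → g = 1) :
    Group.IsSolvable G ∧ ¬ 2 ∣ (Cfsg.pPrimePCore 2 G).index ∧ ∀ σ ∈ Sig, orderOf σ = 3 →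
      Cfsg.pPrimePCore 2 G ⊔ Subgroup.closure {g : G | σ g = g} = ⊤ := by
  classical
  obtain ⟨e⟩ := hS3
  let ev : Equiv.Perm (Fin 3) →* MulAut G := Sig.subtype.comp e.symm.toMonoidHom
  have hev : Function.Injective ev := Sig.subtype_injective.comp e.symm.injective
  have hmem : ∀ σ ∈ Sig, ∃ a, ev a = σ :=
    fun σ hσ => ⟨e ⟨σ, hσ⟩, congrArg Subtype.val (e.symm_apply_apply _)⟩
  set τ := ev (Equiv.swap 0 1) with hτdef
  have hτ2 : ∀ x, τ (τ x) = x := fun x => by
    rw [← MulAut.mul_apply, hτdef, ← map_mul, Equiv.swap_mul_self, map_one]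
    rfl
  have main : ∀ a : Equiv.Perm (Fin 3), a ^ 3 = 1 → a ≠ 1 →
      (∀ x, ev a x = x → Odd (orderOf x)) ∧
        ∀ x y, ev a x = x → ev a y = y → x * y = y * x := by
    intro a ha ha1
    have hsq : ∀ x, ev a x = x → ev (a ^ 2) x = x := fun x hx => by
      rw [map_pow, pow_two, MulAut.mul_apply, hx, hx]
    have hno : ∀ x, ev a x = x → τ x = x → x = 1 := by
      intro x hx hτx
      refine hfpf x fun σ hσ => ?_
      obtain ⟨b, rfl⟩ := hmem σ hσ
      rcases List.mem_cons.1 (perm3_gen a b ha ha1) with rfl | hb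
      · rw [map_one]; rfl
      simp only [List.mem_cons, List.not_mem_nil, or_false] at hb
      rcases hb with rfl | rfl | rfl | rfl | rfl
      · exact hx
      · exact hsq x hx
      · exact hτx
      · rw [map_mul, MulAut.mul_apply, hx]; exact hτx
      · rw [map_mul, MulAut.mul_apply, hsq x hx]; exact hτx
    have hstab : ∀ x, ev a x = x → ev a (τ x) = τ x := by
      intro x hx
      have hc : ∃ c, a * Equiv.swap 0 1 = Equiv.swap 0 1 * c ∧ ev c x = x := by
        rcases perm3_cases a (Equiv.swap 0 1)⁻¹ ha ha1 with e1 | e1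
        · exact ⟨a, by rw [inv_inv] at e1; conv_rhs => rw [← e1]
                       simp [← mul_assoc], hx⟩
        · exact ⟨a ^ 2, by rw [inv_inv] at e1; rw [← e1]; simp [← mul_assoc], hsq x hx⟩
      obtain ⟨c, hc1, hc2⟩ := hc
      rw [← MulAut.mul_apply, hτdef, ← map_mul, hc1, map_mul, MulAut.mul_apply, hc2]
    let C := fixedPts (ev a)
    let f : C → C := fun x => ⟨(x : G)⁻¹ * τ x, mul_mem (inv_mem x.2) (hstab x x.2)⟩
    have hinv : ∀ x, ev a x = x → τ x = x⁻¹ := by
      have hbij : Function.Bijective f := Finite.injective_iff_bijective.1 fun x y hxy => by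
        have h1 : (x : G)⁻¹ * τ x = (y : G)⁻¹ * τ y := congrArg Subtype.val hxy
        have h2 : τ ((y : G) * (x : G)⁻¹) = (y : G) * (x : G)⁻¹ := by
          rw [map_mul, map_inv]
          calc τ (y : G) * (τ (x : G))⁻¹
              = y * ((y : G)⁻¹ * τ y) * (τ (x : G))⁻¹ := by group
            _ = y * ((x : G)⁻¹ * τ x) * (τ (x : G))⁻¹ := by rw [h1]
            _ = y * (x : G)⁻¹ := by group
        exact Subtype.ext (mul_inv_eq_one.1 (hno _ (mul_mem y.2 (inv_mem x.2)) h2)).symm
      intro x hx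
      obtain ⟨z, hz⟩ := hbij.2 ⟨x, hx⟩
      have hz' : (z : G)⁻¹ * τ z = x := congrArg Subtype.val hz
      rw [← hz', map_mul, map_inv, hτ2, mul_inv_rev, inv_inv]
    refine ⟨fun x hx => ?_, fun x y hx hy => ?_⟩
    · by_contra hodd
      obtain ⟨k, hk⟩ := even_iff_two_dvd.1 (Nat.not_odd_iff_even.1 hodd)
      have hxk : ev a (x ^ k) = x ^ k := by rw [map_pow, hx]
      have h1 : x ^ k = 1 := by
        refine hno _ hxk ((hinv _ hxk).trans (inv_eq_of_mul_eq_one_left ?_))
        rw [← pow_add, ← two_mul, ← hk, pow_orderOf_eq_one]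
      have hpos := orderOf_pos x
      have := Nat.le_of_dvd (by omega) (orderOf_dvd_of_pow_eq_one h1)
      omega
    · have hxy : ev a (x * y) = x * y := by rw [map_mul, hx, hy]
      have h1 := hinv _ hxy
      rw [map_mul, hinv x hx, hinv y hy, mul_inv_rev] at h1
      have h2 := congrArg (fun g => g⁻¹) h1
      simp only [mul_inv_rev, inv_inv] at h2
      exact h2.symm
  let c : Equiv.Perm (Fin 3) := Equiv.swap 0 1 * Equiv.swap 1 2
  obtain ⟨hodd, -⟩ := main c (by decide) (by decide)
  haveI hsol : Group.IsSolvable G := isSolvable_of_fixed h (Nat.card G) G le_rfl h3 (ev c)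
    (by rw [← map_pow, show c ^ 3 = 1 by decide, map_one]) hodd
  refine ⟨hsol, ?_, ?_⟩
  · exact (structure_solvable h3 (ev c) (by rw [← map_pow, show c ^ 3 = 1 by decide, map_one]) hodd
      (main c (by decide) (by decide)).2).1
  · intro σ hσ hord
    obtain ⟨a, rfl⟩ := hmem σ hσ
    have ha : a ^ 3 = 1 := hev (by
      rw [map_pow, map_one]
      exact orderOf_dvd_iff_pow_eq_one.1 hord.dvd)
    have ha1 : a ≠ 1 := by
      rintro rfl
      rw [map_one, orderOf_one] at hord
      omega
    exact (structure_solvable h3 (ev a) (by rw [← map_pow, ha, map_one]) (main a ha ha1).1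
      (main a ha ha1).2).2

end Cfsg.Agent.ThreePrime89
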