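import Cfsg.Agent.ThreePrime89.Common
import Cfsg.Agent.KnownSimple.OutSuzuki.Main
import Cfsg.Agent.LocalEven64.SzSub.Embed
import Cfsg.Agent.Lib.RankOne.SzBridge
import Cfsg.Agent.Lib.Thompson.Cores

/-!
Automorphisms of order three of the Suzuki groups are conjugate to field automorphisms.
-/

set_option autoImplicit false
set_option linter.style.haveILetI false

namespace Cfsg.Agent.ThreePrime89

open Subgroup Cfsg.Agent.Suzuki Cfsg.Agent.KnownSimple

variable {F : Type*} [Field F] [Fintype F] {m : ℕ}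

theorem center_eq_bot_sz (hF : Fintype.card F = 2 ^ (2 * m + 1)) (hm : 1 ≤ m) :
    center (Cfsg.Sz F m) = ⊥ := by
  haveI := Suzuki.isSimpleGroup hF hm
  refine (inferInstance : (center (Cfsg.Sz F m)).Normal).eq_bot_or_eq_top.resolve_right fun h => ?_
  refine LocalEven64.SzSub.not_isSolvable_Sz hF hm (Group.isSolvable_of_comm fun a b => ?_)
  exact mem_center_iff.1 (h ▸ mem_top b) a

/-- An automorphism of order three is conjugate into the field automorphisms. -/
theorem exists_field_conj (hF : Fintype.card F = 2 ^ (2 * m + 1)) (hm : 1 ≤ m)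
    (h3 : ¬ 3 ∣ Nat.card (Cfsg.Sz F m)) (α : MulAut (Cfsg.Sz F m)) (hα : α ^ 3 = 1) (hα1 : α ≠ 1) :
    ∃ (τ : F ≃+* F) (c : MulAut (Cfsg.Sz F m)), orderOf τ = 3 ∧
      ∀ x, OutSz.fAut hF hm τ x = x → α (c x) = c x := by
  classical
  haveI : Fact (Nat.Prime 3) := ⟨Nat.prime_three⟩
  obtain ⟨g, τ, hg⟩ := OutSz.exists_eq hF hm α
  set f := OutSz.fAut hF hm τ with hf
  have hconj : ∀ y, f * MulAut.conj y = MulAut.conj (f y) * f := fun y => by
    ext x
    simp [MulAut.conj_apply]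
  have hcube : MulAut.conj (g * f g * f (f g)) * f ^ 3 = 1 := by
    rw [← hα, hg]
    calc MulAut.conj (g * f g * f (f g)) * f ^ 3
        = MulAut.conj g * (MulAut.conj (f g) * (MulAut.conj (f (f g)) * f)) * f * f := by
          rw [map_mul, map_mul, pow_succ, pow_two]; simp only [mul_assoc]
      _ = MulAut.conj g * (MulAut.conj (f g) * (f * MulAut.conj (f g))) * f * f := by rw [hconj]
      _ = MulAut.conj g * ((MulAut.conj (f g) * f) * (MulAut.conj (f g) * f)) * f := by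
          simp only [mul_assoc]
      _ = MulAut.conj g * ((f * MulAut.conj g) * (f * MulAut.conj g)) * f := by rw [hconj]
      _ = (MulAut.conj g * f) ^ 3 := by rw [pow_succ, pow_two]; simp only [mul_assoc]
  have hτ3 : τ ^ 3 = 1 := by
    refine OutSz.eq_one_of_inner hF hm _ (g * f g * f (f g))⁻¹ ?_
    rw [map_pow, ← hf, map_inv]
    exact inv_eq_of_mul_eq_one_right hcube
  have hτ1 : τ ≠ 1 := by
    rintro rfl
    have hf1 : f = 1 := by rw [hf, map_one]
    rw [hf1, mul_one] at hg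
    apply hα1
    have h1 : g ^ 3 ∈ center (Cfsg.Sz F m) := by
      rw [mem_center_iff]
      intro x
      have h2 := DFunLike.congr_fun (show MulAut.conj (g ^ 3) = 1 by rw [map_pow, ← hg, hα]) x
      rw [MulAut.conj_apply, MulAut.one_apply, mul_inv_eq_iff_eq_mul] at h2
      exact h2.symm
    rw [center_eq_bot_sz hF hm, mem_bot] at h1
    have h2 : orderOf g = 1 := ((Nat.dvd_prime Nat.prime_three).1
      (orderOf_dvd_of_pow_eq_one h1)).resolve_right fun e => h3 (e ▸ orderOf_dvd_natCard g)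
    rw [hg, orderOf_eq_one_iff.1 h2, map_one]
  have hτord : orderOf τ = 3 := orderOf_eq_prime hτ3 hτ1
  have hf3 : f ^ 3 = 1 := by rw [hf, ← map_pow, hτ3, map_one]
  have hf1 : f ≠ 1 := by
    intro h
    refine hτ1 (OutSz.eq_one_of_inner hF hm τ 1 ?_)
    rw [map_one, ← hf, h]
  -- the subgroup generated by the inner automorphisms and `f`
  let I := (MulAut.conj : Cfsg.Sz F m →* MulAut (Cfsg.Sz F m)).range
  haveI : I.Normal := ⟨by
    rintro _ ⟨y, rfl⟩ β
    exact ⟨β y, by ext x; simp [MulAut.conj_apply]⟩⟩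
  let X := zpowers f ⊔ I
  have hcard : Nat.card X ∣ 3 * Nat.card (Cfsg.Sz F m) := by
    refine (Thompson.card_sup_dvd_mul (zpowers f) I).trans ?_
    rw [Nat.card_zpowers, orderOf_eq_prime hf3 hf1]
    exact mul_dvd_mul_left _ (Subgroup.card_range_dvd _)
  have hsyl : ∀ β : X, β ^ 3 = 1 → β ≠ 1 → ∃ P : Sylow 3 X, (P : Subgroup X) = zpowers β := by
    intro β hb hb1
    have hbord := orderOf_eq_prime hb hb1
    obtain ⟨P, hP⟩ := (IsPGroup.of_card (n := 1) (show Nat.card (zpowers β) = 3 ^ 1 by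
      rw [Nat.card_zpowers, hbord, pow_one]) : IsPGroup 3 (zpowers β)).exists_le_sylow
    refine ⟨P, (eq_of_le_of_card_ge hP ?_).symm⟩
    obtain ⟨e, he⟩ := IsPGroup.iff_card.1 P.2
    rw [he, Nat.card_zpowers, hbord]
    by_contra hlt
    have he2 : 2 ≤ e := by
      by_contra h
      interval_cases e <;> omega
    have h9 : 3 * 3 ∣ 3 * Nat.card (Cfsg.Sz F m) := by
      refine dvd_trans ?_ ((card_subgroup_dvd_card (P : Subgroup X)).trans hcard)
      rw [he, ← pow_two]
      exact pow_dvd_pow 3 he2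
    exact h3 (Nat.dvd_of_mul_dvd_mul_left (by norm_num) h9)
  have hfX : f ∈ X := mem_sup_left (mem_zpowers f)
  have hαX : α ∈ X := by
    rw [hg]
    exact mul_mem (mem_sup_right ⟨g, rfl⟩) hfX
  obtain ⟨P, hP⟩ := hsyl ⟨f, hfX⟩ (Subtype.ext hf3) (fun h => hf1 (congrArg Subtype.val h))
  obtain ⟨P', hP'⟩ := hsyl ⟨α, hαX⟩ (Subtype.ext hα) (fun h => hα1 (congrArg Subtype.val h))
  obtain ⟨c, hc⟩ := MulAction.exists_smul_eq X P P'
  have hmem : (⟨α, hαX⟩ : X) ∈ ((c • P : Sylow 3 X) : Subgroup X) := by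
    rw [hc, hP']; exact mem_zpowers _
  obtain ⟨z, hz, hzc⟩ := hmem
  rw [hP] at hz
  obtain ⟨i, rfl⟩ := (mem_powers_iff_mem_zpowers).2 hz
  refine ⟨τ, (c : MulAut (Cfsg.Sz F m)), hτord, fun x hx => ?_⟩
  have hα' : α = (c : MulAut (Cfsg.Sz F m)) * f ^ i * (c : MulAut (Cfsg.Sz F m))⁻¹ := by
    have h := congrArg Subtype.val hzc
    exact h.symm.trans (by rfl)
  have hfi : (f ^ i) x = x := by
    clear hα' hzc hz
    induction i with
    | zero => rfl
    | succ i ih => rw [pow_succ, MulAut.mul_apply]; exact (congrArg _ hx).trans ih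
  rw [hα', MulAut.mul_apply, MulAut.mul_apply, MulAut.inv_apply_self, hfi]

theorem orderOf_W (hF : Fintype.card F = 2 ^ (2 * m + 1)) : orderOf (W hF : Cfsg.Sz F m) = 2 := by
  refine orderOf_eq_prime (by rw [pow_two, W_mul_W]) fun h => ?_
  have := congrArg (fun g : Cfsg.Sz F m =>
    ((g : Matrix.SpecialLinearGroup (Fin 4) F) : Matrix (Fin 4) (Fin 4) F) 0 0) h
  simp [W, wel] at this

/-- An automorphism of order dividing three fixes an involution. -/
theorem exists_fixed_involution (hF : Fintype.card F = 2 ^ (2 * m + 1)) (hm : 1 ≤ m)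
    (h3 : ¬ 3 ∣ Nat.card (Cfsg.Sz F m)) (α : MulAut (Cfsg.Sz F m)) (hα : α ^ 3 = 1) :
    ∃ x, orderOf x = 2 ∧ α x = x := by
  by_cases hα1 : α = 1
  · exact ⟨_, orderOf_W hF, by rw [hα1]; rfl⟩
  obtain ⟨τ, c, -, hc⟩ := exists_field_conj hF hm h3 α hα hα1
  refine ⟨c (W hF), by rw [MulEquiv.orderOf_eq]; exact orderOf_W hF, hc _ ?_⟩
  exact Subtype.ext (OutSz.map_W hF τ)

/-- Solvable fixed points force `q = 8`. -/
theorem eq_eight_of_fixed_solvable (hF : Fintype.card F = 2 ^ (2 * m + 1)) (hm : 1 ≤ m)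
    (h3 : ¬ 3 ∣ Nat.card (Cfsg.Sz F m)) (α : MulAut (Cfsg.Sz F m)) (hα : α ^ 3 = 1)
    (hsol : Group.IsSolvable (fixedPts α)) : m = 1 := by
  classical
  by_contra hm1
  have hns := LocalEven64.SzSub.not_isSolvable_Sz hF hm
  have hα1 : α ≠ 1 := by
    intro h
    refine hns (Group.isSolvable_of_surjective (f := (fixedPts α).subtype) fun x =>
      ⟨⟨x, by rw [mem_fixedPts, h]; rfl⟩, rfl⟩)
  obtain ⟨τ, c, hτ, hc⟩ := exists_field_conj hF hm h3 α hα hα1
  let T := zpowers τ
  haveI : Finite T := Nat.finite_of_card_ne_zero (by rw [Nat.card_zpowers, hτ]; norm_num)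
  let K := FixedPoints.subfield T F
  haveI : Fintype K := Fintype.ofFinite K
  have hrank : Module.finrank K F = 3 := by
    haveI : Fintype T := Fintype.ofFinite T
    rw [FixedPoints.finrank_eq_card T F, ← Nat.card_eq_fintype_card, Nat.card_zpowers, hτ]
  have hK3 : Fintype.card F = Fintype.card K ^ 3 := by
    rw [← hrank]; exact Module.card_eq_pow_finrank
  rw [hF] at hK3
  obtain ⟨j, -, hj⟩ := (Nat.dvd_prime_pow Nat.prime_two).1
    (hK3 ▸ dvd_pow_self (Fintype.card K) (by norm_num : 3 ≠ 0))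
  rw [hj, ← pow_mul] at hK3
  have hmj := Nat.pow_right_injective le_rfl hK3
  obtain ⟨k, rfl⟩ : ∃ k, j = 2 * k + 1 := by
    rcases Nat.even_or_odd j with ⟨k, rfl⟩ | ⟨k, rfl⟩
    · omega
    · exact ⟨k, rfl⟩
  have hk : 1 ≤ k := by omega
  have hd : 2 * k + 1 ∣ 2 * m + 1 := ⟨3, hmj⟩
  let e := LocalEven64.SzSub.emb hF hj hd K.subtype hk
  have hfix : ∀ y, OutSz.fAut hF hm τ (e y) = e y := fun y => by
    apply Subtype.ext
    ext r s
    exact ((((y : Matrix.SpecialLinearGroup (Fin 4) K) :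
      Matrix (Fin 4) (Fin 4) K) r s).2 ⟨τ, mem_zpowers τ⟩)
  let φ : Cfsg.Sz K k →* fixedPts α :=
    ((c : MulAut (Cfsg.Sz F m)).toMonoidHom.comp e).codRestrict _ fun y => hc _ (hfix y)
  refine LocalEven64.SzSub.not_isSolvable_Sz hj hk
    (Group.isSolvable_of_isSolvable_injective (f := φ) fun a b h => ?_)
  exact LocalEven64.SzSub.emb_injective hF hj hd K.subtype hk
    (c.injective (congrArg Subtype.val h))

/-- Transport of automorphisms along an isomorphism. -/
theorem mem_fixedPts_congr {G H : Type*} [Group G] [Group H] (e : G ≃* H) (α : MulAut G) (x : H) :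
    x ∈ fixedPts (MulAut.congr e α) ↔ e.symm x ∈ fixedPts α := by
  rw [mem_fixedPts, mem_fixedPts]
  constructor
  · intro h
    apply e.injective
    rw [e.apply_symm_apply]
    exact h
  · intro h
    show e (α (e.symm x)) = x
    rw [h, e.apply_symm_apply]

/-- The form used for abstract Suzuki groups. -/
theorem iso_fixed_involution {G : Type*} [Group G] [Finite G] (hG : Cfsg.Lie.IsoSuzuki G)
    (h3 : ¬ 3 ∣ Nat.card G) (α : MulAut G) (hα : α ^ 3 = 1) :
    ∃ x, orderOf x = 2 ∧ α x = x := by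
  obtain ⟨F, iF, iT, m, hm, hF, ⟨e⟩⟩ := hG
  let e' := e.trans (RankOne.SzBridge.szEquiv hF hm).symm
  obtain ⟨x, hx, hfx⟩ := exists_fixed_involution hF hm
    (Nat.card_congr e'.toEquiv ▸ h3) (MulAut.congr e' α) (by rw [← map_pow, hα, map_one])
  exact ⟨e'.symm x, by rw [MulEquiv.orderOf_eq]; exact hx, (mem_fixedPts_congr e' α x).1 hfx⟩

theorem iso_eq_eight {G : Type*} [Group G] [Finite G] (hG : Cfsg.Lie.IsoSuzuki G)
    (h3 : ¬ 3 ∣ Nat.card G) (α : MulAut G) (hα : α ^ 3 = 1)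
    (hsol : Group.IsSolvable (fixedPts α)) :
    ∃ (F : Type) (_ : Field F) (_ : Fintype F), Fintype.card F = 8 ∧
      Nonempty (G ≃* ↥(Cfsg.Lie.Sz F 4)) := by
  obtain ⟨F, iF, iT, m, hm, hF, ⟨e⟩⟩ := hG
  let e' := e.trans (RankOne.SzBridge.szEquiv hF hm).symm
  haveI := hsol
  have h1 := eq_eight_of_fixed_solvable hF hm (Nat.card_congr e'.toEquiv ▸ h3) (MulAut.congr e' α)
    (by rw [← map_pow, hα, map_one])
    (Group.isSolvable_of_isSolvable_injective (f := ((e'.symm.toMonoidHom.comp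
      (fixedPts (MulAut.congr e' α)).subtype).codRestrict (fixedPts α)
        fun x => (mem_fixedPts_congr e' α x).1 x.2))
      fun a b h => Subtype.ext (e'.symm.injective (congrArg Subtype.val h)))
  subst h1
  exact ⟨F, iF, iT, by rw [hF]; norm_num, ⟨e⟩⟩

end Cfsg.Agent.ThreePrime89
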