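import Cfsg.Agent.ThreePrime89.Fpf
import Cfsg.Agent.ThreePrime89.SzAut
import Cfsg.Agent.PF14.Compose

/-!
Consequences for groups of order prime to three of the recognition of the Suzuki groups among
simple groups of that kind.
-/

set_option autoImplicit false
set_option linter.style.haveILetI false
set_option linter.unusedSectionVars false

namespace Cfsg.Agent.ThreePrime89

open Subgroup

universe u

/-- Simple groups of order prime to three are Suzuki groups. -/
def SimpleThree : Prop :=
  ∀ (G : Type u) [Group G] [Finite G] [IsSimpleGroup G], (∃ a b : G, a * b ≠ b * a) →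
    ¬ 3 ∣ Nat.card G → Cfsg.Lie.IsoSuzuki G

/-- A subgroup commuting with its image is solvable when the fixed points are. -/
theorem isSolvable_of_orbit {G : Type*} [Group G] {σ : MulAut G} (hσ : σ ^ 3 = 1)
    (M : Subgroup G) (hc : ∀ a ∈ M, ∀ b ∈ M, Commute a (σ b))
    (hF : Group.IsSolvable (fixedPts σ)) : Group.IsSolvable M := by
  have h1 : ∀ a ∈ M, ∀ b ∈ M, Commute (σ a) (σ (σ b)) := fun a ha b hb => (hc a ha b hb).map σ
  have h2 : ∀ a ∈ M, ∀ b ∈ M, Commute a (σ (σ b)) := fun a ha b hb => by
    have h := ((hc b hb a ha).map σ).map σ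
    rw [apply_three hσ] at h
    exact h.symm
  let ψ : M →* fixedPts σ :=
    { toFun := fun a => ⟨(a : G) * σ a * σ (σ a), by
        rw [mem_fixedPts, map_mul, map_mul, apply_three hσ]
        exact ((hc a a.2 a a.2).mul_right (h2 a a.2 a a.2)).eq.symm.trans (mul_assoc _ _ _).symm⟩
      map_one' := Subtype.ext (by simp)
      map_mul' := fun a b => Subtype.ext (by
        have e1 := (hc b b.2 a a.2).eq
        have e2 := (h2 b b.2 a a.2).eq
        have e3 := (h1 b b.2 a a.2).eq
        show (a : G) * b * σ ((a : G) * b) * σ (σ ((a : G) * b)) =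
          ((a : G) * σ a * σ (σ a)) * ((b : G) * σ b * σ (σ b))
        simp only [map_mul]
        calc (a : G) * b * (σ a * σ b) * (σ (σ a) * σ (σ b))
            = a * (b * σ a) * (σ b * σ (σ a)) * σ (σ b) := by group
          _ = a * (σ a * b) * (σ (σ a) * σ b) * σ (σ b) := by rw [e1, e3]
          _ = a * σ a * (b * σ (σ a)) * σ b * σ (σ b) := by group
          _ = a * σ a * (σ (σ a) * b) * σ b * σ (σ b) := by rw [e2]
          _ = _ := by group) }
  haveI := hF
  haveI : Group.IsSolvable (center M) :=
    Group.isSolvable_of_comm fun a b => Subtype.ext (mem_center_iff.1 b.2 a)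
  refine Group.isSolvable_of_ker_le_range (center M).subtype ψ fun a ha => ?_
  rw [range_subtype, mem_center_iff]
  intro b
  have hb : Commute (b : G) (σ a * σ (σ a)) := (hc b b.2 a a.2).mul_right (h2 b b.2 a a.2)
  have he : (a : G) = (σ a * σ (σ a))⁻¹ := by
    refine eq_inv_of_mul_eq_one_left ?_
    rw [← mul_assoc]
    exact congrArg Subtype.val ha
  refine Subtype.ext ?_
  show (b : G) * a = a * b
  rw [he]
  exact hb.inv_right.eq

/-- Restriction of an automorphism to an invariant subgroup. -/
noncomputable def subAut {G : Type*} [Group G] [Finite G] (σ : MulAut G) (N : Subgroup G)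
    (hN : ∀ x ∈ N, σ x ∈ N) : MulAut N :=
  MulEquiv.ofBijective (((σ : G →* G).comp N.subtype).codRestrict N fun x => hN x x.2)
    (Finite.injective_iff_bijective.1 fun a b h =>
      Subtype.ext (σ.injective (congrArg Subtype.val h)))

theorem subAut_pow {G : Type*} [Group G] [Finite G] (σ : MulAut G) (hσ : σ ^ 3 = 1)
    (N : Subgroup G) (hN : ∀ x ∈ N, σ x ∈ N) : subAut σ N hN ^ 3 = 1 :=
  MulEquiv.ext fun x => Subtype.ext (apply_three hσ (x : G))

theorem map_eq_of_invariant {G : Type*} [Group G] [Finite G] (σ : MulAut G) (N : Subgroup G)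
    (hN : ∀ x ∈ N, σ x ∈ N) : N.map σ.toMonoidHom = N :=
  eq_of_le_of_card_ge (fun _ ⟨y, hy, e⟩ => e ▸ hN y hy)
    (card_map_of_injective σ.injective).ge

/-- Odd fixed points of an automorphism of order three force solvability. -/
theorem isSolvable_of_fixed (h : SimpleThree.{u}) : ∀ (n : ℕ) (G : Type u) [Group G] [Finite G],
    Nat.card G ≤ n → ¬ 3 ∣ Nat.card G → ∀ σ : MulAut G, σ ^ 3 = 1 →
      (∀ x, σ x = x → Odd (orderOf x)) → Group.IsSolvable G := by
  intro n
  induction n with
  | zero =>
    intro G _ _ hn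
    exact absurd hn (by simp [Nat.card_pos.ne'])
  | succ n ih =>
    intro G _ _ hn h3 σ hσ hodd
    classical
    -- an invariant normal subgroup reduces the order
    have key : ∀ (N : Subgroup G) [N.Normal], (∀ x ∈ N, σ x ∈ N) → N ≠ ⊥ → N ≠ ⊤ →
        Group.IsSolvable G := by
      intro N _ hN hbot htop
      haveI : Group.IsSolvable N := by
        refine ih N ?_ (fun hd => h3 (hd.trans (card_subgroup_dvd_card N))) (subAut σ N hN)
          (subAut_pow σ hσ N hN) fun x hx => ?_
        · by_contra hlt
          exact htop (Subgroup.eq_top_of_card_eq N (le_antisymm (Subgroup.card_le_card_group N)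
            (by omega)))
        · have := hodd x (congrArg Subtype.val hx)
          rwa [orderOf_coe] at this
      let σ' : MulAut (G ⧸ N) := QuotientGroup.congr N N σ (map_eq_of_invariant σ N hN)
      haveI : Group.IsSolvable (G ⧸ N) := by
        refine ih _ ?_ (fun hd => h3 (hd.trans (card_quotient_dvd_card N))) σ' ?_ fun x hx => ?_
        · have h1 := Subgroup.card_mul_index N
          rw [Subgroup.index_eq_card] at h1
          have h2 : 2 ≤ Nat.card N := by
            have := (Finite.one_lt_card_iff_nontrivial).2 ((nontrivial_iff_ne_bot N).2 hbot)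
            omega
          have h4 : 0 < Nat.card (G ⧸ N) := Nat.card_pos
          have h5 := Nat.mul_le_mul_right (Nat.card (G ⧸ N)) h2
          omega
        · refine MulEquiv.ext fun x => ?_
          induction x using QuotientGroup.induction_on with
          | H g => exact congrArg (QuotientGroup.mk (s := N)) (apply_three hσ g)
        · obtain ⟨g, rfl⟩ := QuotientGroup.mk'_surjective N x
          obtain ⟨m, hm, hf⟩ := exists_fixed_mul hσ N hN
            (fun hd => h3 (hd.trans (card_subgroup_dvd_card N))) (g := g)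
            (QuotientGroup.eq.1 hx.symm)
          have h6 : QuotientGroup.mk' N g = QuotientGroup.mk' N (g * m) := by
            rw [map_mul, show QuotientGroup.mk' N m = 1 from (QuotientGroup.eq_one_iff m).2 hm,
              mul_one]
          rw [h6]
          exact (hodd _ hf).of_dvd_nat (orderOf_map_dvd _ _)
      exact Group.isSolvable_of_ker_le_range N.subtype (QuotientGroup.mk' N) (by simp)
    rcases subsingleton_or_nontrivial G with hs | hs
    · exact Group.isSolvable_of_comm fun a b => Subsingleton.elim _ _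
    obtain ⟨M, hM⟩ := Cfsg.Agent.Fitting.exists_isMinNormal (G := G)
    haveI := hM.1
    by_cases hMtop : M = ⊤
    · haveI : IsSimpleGroup G := ⟨fun K hK => by
        rcases hM.2.2 K hK (hMtop ▸ le_top) with e | e
        · exact Or.inl e
        · exact Or.inr (e.trans hMtop)⟩
      by_contra hns
      have hna : ∃ a b : G, a * b ≠ b * a := by
        by_contra hc
        push Not at hc
        exact hns (Group.isSolvable_of_comm hc)
      obtain ⟨x, hx, hfx⟩ := iso_fixed_involution (h G hna h3) h3 σ hσ
      exact Nat.not_odd_iff_even.2 even_two (hx ▸ hodd x hfx)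
    by_cases hinv : ∀ x ∈ M, σ x ∈ M
    · exact key M hinv hM.2.1 hMtop
    have hσn : (M.map σ.toMonoidHom).Normal := hM.1.map _ σ.surjective
    have hinf : M ⊓ M.map σ.toMonoidHom = ⊥ := by
      haveI := hσn
      refine (hM.2.2 _ inferInstance inf_le_left).resolve_right fun e => hinv fun x hx => ?_
      have he : M = M.map σ.toMonoidHom := eq_of_le_of_card_ge (inf_eq_left.1 e)
        (card_map_of_injective σ.injective).le
      exact he.ge ⟨x, hx, rfl⟩
    haveI hMs : Group.IsSolvable M := by
      refine isSolvable_of_orbit hσ M (fun a ha b hb => ?_) ?_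
      · exact commute_of_normal_of_disjoint _ _ hM.1 hσn (disjoint_iff.2 hinf) a _ ha ⟨b, hb, rfl⟩
      · refine PF14.feitThompson (fixedPts σ) (Nat.odd_iff.2 (Nat.two_dvd_ne_zero.1 fun hd => ?_))
        haveI : Fact (Nat.Prime 2) := ⟨Nat.prime_two⟩
        obtain ⟨x, hx⟩ := exists_prime_orderOf_dvd_card' 2 hd
        have := hodd (x : G) x.2
        rw [orderOf_coe, hx] at this
        exact Nat.not_odd_iff_even.2 even_two this
    haveI := hM.isMulCommutative
    by_cases hFtop : Cfsg.fittingSubgroup G = ⊤
    · haveI : Group.IsNilpotent (Cfsg.fittingSubgroup G) := Cfsg.Agent.Fitting.fitting_isNilpotent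
      haveI := Cfsg.Agent.Coprime.isSolvable_of_isNilpotent' this
      exact Group.isSolvable_of_surjective (f := (Cfsg.fittingSubgroup G).subtype)
        fun g => ⟨⟨g, hFtop ▸ mem_top g⟩, rfl⟩
    exact key _ (map_mem_of_characteristic σ _)
      (fun e => hM.2.1 (le_bot_iff.1 (hM.le_fitting.trans e.le))) hFtop

/-- The structure part in the form of S3040. -/
theorem structure_solvable {G : Type u} [Group G] [Finite G] [Group.IsSolvable G]
    (h3 : ¬ 3 ∣ Nat.card G) (σ : MulAut G) (hσ : σ ^ 3 = 1)
    (hodd : ∀ x, σ x = x → Odd (orderOf x))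
    (hab : ∀ x y, σ x = x → σ y = y → x * y = y * x) :
    ¬ 2 ∣ (Cfsg.pPrimePCore 2 G).index ∧
      Cfsg.pPrimePCore 2 G ⊔ Subgroup.closure {g : G | σ g = g} = ⊤ := by
  classical
  haveI : Fact (Nat.Prime 2) := ⟨Nat.prime_two⟩
  let N := Cfsg.pPrimeCore 2 G
  let σ' := quotAut N σ
  have hσ' : σ' ^ 3 = 1 := by rw [← map_pow, hσ, map_one]
  have hlift : ∀ x, σ' x = x → ∃ g, σ g = g ∧ QuotientGroup.mk' N g = x := by
    intro x hx
    obtain ⟨g, rfl⟩ := QuotientGroup.mk'_surjective N x
    obtain ⟨m, hm, hf⟩ := exists_fixed_mul hσ N (map_mem_of_characteristic σ N)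
      (fun hd => h3 (hd.trans (card_subgroup_dvd_card N))) (g := g) (QuotientGroup.eq.1 hx.symm)
    exact ⟨g * m, hf, by
      rw [map_mul, show QuotientGroup.mk' N m = 1 from (QuotientGroup.eq_one_iff m).2 hm, mul_one]⟩
  obtain ⟨hidx, hall⟩ := structure_of_fixed_abelian (H := G ⧸ N)
    Thompson.pPrimeCore_quotient_pPrimeCore (fun hd => h3 (hd.trans (card_quotient_dvd_card N)))
    σ' hσ'
    (fun x hx => by
      obtain ⟨g, hg, rfl⟩ := hlift x hx
      exact (hodd g hg).of_dvd_nat (orderOf_map_dvd _ _))
    (fun x y hx hy => by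
      obtain ⟨g, hg, rfl⟩ := hlift x hx
      obtain ⟨k, hk, rfl⟩ := hlift y hy
      rw [← map_mul, ← map_mul, hab g k hg hk])
  constructor
  · rwa [Cfsg.pPrimePCore, index_comap_of_surjective _ (QuotientGroup.mk'_surjective N)]
  · refine eq_top_iff.2 fun g _ => ?_
    have hg : g⁻¹ * σ g ∈ Cfsg.pPrimePCore 2 G := by
      rw [Cfsg.pPrimePCore, mem_comap, map_mul, map_inv]
      exact hall (QuotientGroup.mk' N g)
    have hch : ∀ x ∈ Cfsg.pPrimePCore 2 G, σ x ∈ Cfsg.pPrimePCore 2 G := by
      intro x hx
      rw [Cfsg.pPrimePCore, mem_comap] at hx ⊢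
      rw [← quotAut_mk N σ]
      exact map_mem_of_characteristic σ' _ _ hx
    obtain ⟨n, hn, hf⟩ := exists_fixed_mul hσ _ hch
      (fun hd => h3 (hd.trans (card_subgroup_dvd_card _))) hg
    have hcl : g * n ∈ Subgroup.closure {g : G | σ g = g} := Subgroup.subset_closure hf
    have := (Cfsg.pPrimePCore 2 G ⊔ Subgroup.closure {g : G | σ g = g}).mul_mem
      (mem_sup_right hcl) (inv_mem (mem_sup_left hn))
    rwa [mul_inv_cancel_right] at this

end Cfsg.Agent.ThreePrime89
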