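import Cfsg.Agent.ThreePrime89.SzMax
import Cfsg.Agent.ThreePrime89.Solv
import Cfsg.Agent.CNCit80.SzCongr
import Cfsg.Agent.Suz27.SimpleCase

/-!
The Suzuki groups by the orders of their maximal subgroups, modulo the recognition of the Suzuki
groups.
-/

set_option autoImplicit false
set_option linter.style.haveILetI false

namespace Cfsg.Agent.ThreePrime89

open Subgroup
open scoped commutatorElement

universe u

theorem maxOrders_congr {X Y : Type*} [Group X] [Group Y] (e : X ≃* Y) :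
    {k : ℕ | ∃ M : Subgroup X, IsCoatom M ∧ k = Nat.card ↥M} =
      {k : ℕ | ∃ M : Subgroup Y, IsCoatom M ∧ k = Nat.card ↥M} := by
  ext k
  constructor
  · rintro ⟨M, hM, rfl⟩
    refine ⟨M.map e.toMonoidHom, ?_, (card_map_of_injective e.injective).symm⟩
    have h := (OrderIso.isCoatom_iff (MulEquiv.mapSubgroup e) M).2 hM
    exact h
  · rintro ⟨M, hM, rfl⟩
    refine ⟨M.map e.symm.toMonoidHom, ?_, (card_map_of_injective e.symm.injective).symm⟩
    exact (OrderIso.isCoatom_iff (MulEquiv.mapSubgroup e.symm) M).2 hM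

/-- The order divides any common multiple of the orders of the maximal subgroups. -/
theorem card_dvd_of_max {X : Type*} [Group X] [Finite X] {N : ℕ} (hN : N ≠ 0)
    (hnp : ∀ p : ℕ, p.Prime → ∃ M : Subgroup X, IsCoatom M ∧ ∃ l, l.Prime ∧ l ≠ p ∧ l ∣ Nat.card M)
    (h : ∀ M : Subgroup X, IsCoatom M → Nat.card M ∣ N) : Nat.card X ∣ N := by
  rw [Nat.dvd_iff_prime_pow_dvd_dvd]
  intro p k hp hk
  haveI := Fact.mk hp
  obtain ⟨P, hP⟩ := Sylow.exists_subgroup_card_pow_prime p hk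
  obtain ⟨M, hM, hPM⟩ := (eq_top_or_exists_le_coatom P).resolve_left fun e => by
    obtain ⟨M, -, l, hl, hlp, hld⟩ := hnp p hp
    rw [e, Subgroup.card_top] at hP
    exact hlp ((Nat.prime_dvd_prime_iff_eq hl hp).1
      (hl.dvd_of_dvd_pow (hP ▸ hld.trans (card_subgroup_dvd_card M))))
  exact hP ▸ (card_dvd_of_le hPM).trans (h M hM)

theorem suzuki_order_eq {m k i e : ℕ} (hm : 1 ≤ m) (hk : 1 ≤ k) (hi : 1 ≤ i)
    (h : 2 ^ e * ((2 ^ (2 * k + 1)) ^ 2 * ((2 ^ (2 * k + 1)) ^ 2 + 1) * (2 ^ (2 * k + 1) - 1)) ^ i =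
      (2 ^ (2 * m + 1)) ^ 2 * ((2 ^ (2 * m + 1)) ^ 2 + 1) * (2 ^ (2 * m + 1) - 1)) :
    i = 1 ∧ e = 0 ∧ k = m := by
  obtain ⟨Q, hQ⟩ : ∃ Q, Q = 2 ^ (2 * k + 1) := ⟨_, rfl⟩
  obtain ⟨q, hq⟩ : ∃ q, q = 2 ^ (2 * m + 1) := ⟨_, rfl⟩
  rw [← hQ, ← hq, mul_assoc, mul_assoc (q ^ 2), mul_pow, ← mul_assoc] at h
  set f0 := (Q ^ 2 + 1) * (Q - 1) with hf0
  set f := (q ^ 2 + 1) * (q - 1) with hf
  have hQe : 2 ∣ Q := hQ ▸ dvd_pow_self 2 (by omega)
  have hqe : 2 ∣ q := hq ▸ dvd_pow_self 2 (by omega)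
  have hQ8 : 8 ≤ Q := by
    rw [hQ]
    calc 8 = 2 ^ 3 := by norm_num
      _ ≤ _ := Nat.pow_le_pow_right two_pos (by omega)
  have hq8 : 8 ≤ q := by
    rw [hq]
    calc 8 = 2 ^ 3 := by norm_num
      _ ≤ _ := Nat.pow_le_pow_right two_pos (by omega)
  have hodd : ∀ t : ℕ, 2 ∣ t → 2 ≤ t → Odd ((t ^ 2 + 1) * (t - 1)) := fun t ht ht2 => by
    refine Odd.mul ?_ ?_
    · exact Even.add_one (Nat.even_pow.2 ⟨even_iff_two_dvd.2 ht, two_ne_zero⟩)
    · exact Nat.odd_iff.2 (by omega)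
  have hpow : 2 ^ e * (Q ^ 2) ^ i = q ^ 2 := by
    apply Nat.dvd_antisymm
    · refine Nat.Coprime.dvd_of_dvd_mul_right ?_ (Dvd.intro (f0 ^ i) h)
      have hc2 : Nat.Coprime 2 f := Nat.coprime_two_left.2 (hodd q hqe (by omega))
      rw [hQ]
      exact Nat.Coprime.mul_left (hc2.pow_left e) (((hc2.pow_left _).pow_left _).pow_left _)
    · refine Nat.Coprime.dvd_of_dvd_mul_right ?_ (Dvd.intro f h.symm)
      have hc2 : Nat.Coprime 2 f0 := Nat.coprime_two_left.2 (hodd Q hQe (by omega))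
      rw [hq]
      exact ((hc2.pow_left _).pow_left _).pow_right i
  have hf' : f0 ^ i = f := by
    rw [hpow] at h
    exact Nat.eq_of_mul_eq_mul_left (pow_pos (by omega) 2) h
  have hexp : e + (2 * k + 1) * (2 * i) = (2 * m + 1) * 2 := by
    rw [hQ, hq, ← pow_mul, ← pow_mul, ← pow_mul, ← pow_add] at hpow
    exact Nat.pow_right_injective le_rfl hpow
  have hub : f0 + Q ^ 2 ≤ Q ^ 3 + Q := by
    obtain ⟨t, rfl⟩ : ∃ t, Q = t + 1 := ⟨Q - 1, by omega⟩
    rw [hf0, Nat.add_sub_cancel]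
    nlinarith
  have hf0le : f0 ≤ Q ^ 3 := by
    have : Q ≤ Q ^ 2 := Nat.le_self_pow two_ne_zero Q
    omega
  have hlb : q ^ 3 + q = f + q ^ 2 + 1 := by
    obtain ⟨t, rfl⟩ : ∃ t, q = t + 1 := ⟨q - 1, by omega⟩
    rw [hf, Nat.add_sub_cancel]
    ring
  rcases Nat.eq_zero_or_pos e with rfl | he
  · have hQq : Q ^ i = q := by
      rw [hQ, hq, ← pow_mul]
      congr 1
      linarith
    rcases Nat.lt_or_ge i 2 with hi2 | hi2
    · obtain rfl : i = 1 := by omega
      exact ⟨rfl, rfl, by omega⟩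
    · exfalso
      -- `f0 ^ i` is too small
      obtain ⟨j, rfl⟩ : ∃ j, i = j + 1 := ⟨i - 1, by omega⟩
      have hle : f0 ^ j ≤ (Q ^ 3) ^ j := Nat.pow_le_pow_left hf0le j
      have hj : Q ≤ Q ^ j := Nat.le_self_pow (by omega) Q
      have hq2 : Q * Q ^ j = q := by rw [← hQq, pow_succ']
      have h1 : f0 ^ (j + 1) ≤ (Q ^ j) ^ 3 * f0 := by
        rw [pow_succ, ← pow_mul Q j 3, mul_comm j 3, pow_mul]
        exact Nat.mul_le_mul_right f0 hle
      rw [hf'] at h1
      have h3 : (Q ^ j) ^ 3 * (f0 + Q ^ 2) ≤ (Q ^ j) ^ 3 * (Q ^ 3 + Q) := Nat.mul_le_mul_left _ hub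
      have h4 : q ^ 3 = (Q ^ j) ^ 3 * Q ^ 3 := by rw [← hq2]; ring
      -- `(Q^j)^3 * (Q^2 - Q) ≥ q^2`
      have h5 : 2 * ((Q ^ j) ^ 3 * Q) ≤ (Q ^ j) ^ 3 * Q ^ 2 :=
        calc 2 * ((Q ^ j) ^ 3 * Q) ≤ Q * ((Q ^ j) ^ 3 * Q) := Nat.mul_le_mul_right _ (by omega)
          _ = (Q ^ j) ^ 3 * Q ^ 2 := by ring
      have h6 : 2 * q ^ 2 ≤ (Q ^ j) ^ 3 * Q ^ 2 :=
        calc 2 * q ^ 2 = 2 * (Q ^ 2 * (Q ^ j) ^ 2) := by rw [← hq2]; ring
          _ ≤ Q ^ j * (Q ^ 2 * (Q ^ j) ^ 2) := Nat.mul_le_mul_right _ (by omega)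
          _ = (Q ^ j) ^ 3 * Q ^ 2 := by ring
      linarith
  · exfalso
    have hexp2 : e + 2 * ((2 * k + 1) * i) = 2 * (2 * m + 1) := by linarith
    have hle : (2 * k + 1) * i + 1 ≤ 2 * m + 1 := by omega
    have h1 : f0 ^ i ≤ (Q ^ 3) ^ i := Nat.pow_le_pow_left hf0le i
    have h2 : 8 * (Q ^ 3) ^ i ≤ q ^ 3 := by
      rw [hQ, hq, ← pow_mul, ← pow_mul, ← pow_mul, show (8 : ℕ) = 2 ^ 3 by norm_num, ← pow_add]
      exact Nat.pow_le_pow_right two_pos (by linarith)
    have h3 : 8 * q ^ 2 ≤ q ^ 3 := by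
      rw [pow_succ' q 2]
      exact Nat.mul_le_mul_right _ hq8
    rw [hf'] at h1
    linarith [Nat.zero_le (q ^ 3)]

variable {G : Type u} [Group G] [Finite G]

/-- A group with the maximal orders of `Sz(q)` is simple and isomorphic to it. -/
theorem s3728_of (h3 : SimpleThree.{u}) {F : Type*} [Field F] [Fintype F] (m : ℕ) (hm : 1 ≤ m)
    (hF : Fintype.card F = 2 ^ (2 * m + 1))
    (h : {k : ℕ | ∃ M : Subgroup G, IsCoatom M ∧ k = Nat.card ↥M} =
      {k : ℕ | ∃ M : Subgroup ↥(Cfsg.Lie.Sz F (2 ^ (m + 1))), IsCoatom M ∧ k = Nat.card ↥M}) :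
    Nonempty (G ≃* ↥(Cfsg.Lie.Sz F (2 ^ (m + 1)))) := by
  classical
  rw [← maxOrders_congr (RankOne.SzBridge.szEquiv hF hm)] at h
  obtain ⟨q, hq⟩ : ∃ q, q = 2 ^ (2 * m + 1) := ⟨_, rfl⟩
  obtain ⟨r, hr⟩ : ∃ r, r = 2 ^ (m + 1) := ⟨_, rfl⟩
  obtain ⟨hprod, hop, hom, h5, hlt, hcop, hq1, hq0, hq8, -⟩ :=
    torus_arith hm hq hr (rfl : q + r + 1 = _) (rfl : q - r + 1 = _)
  set kp := q + r + 1 with hkp
  set km := q - r + 1 with hkm
  have hcard : Nat.card (Cfsg.Sz F m) = q ^ 2 * (q ^ 2 + 1) * (q - 1) := by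
    rw [Suzuki.card_Sz hF hm, hq]
  -- the maximal subgroups used
  have hSG : ∀ M : Subgroup (Cfsg.Sz F m), IsCoatom M →
      ∃ M' : Subgroup G, IsCoatom M' ∧ Nat.card M' = Nat.card M := fun M hM => by
    obtain ⟨M', hM', e⟩ := h.ge ⟨M, hM, rfl⟩
    exact ⟨M', hM', e.symm⟩
  have hGS : ∀ M : Subgroup G, IsCoatom M →
      ∃ M' : Subgroup (Cfsg.Sz F m), IsCoatom M' ∧ Nat.card M' = Nat.card M := fun M hM => by
    obtain ⟨M', hM', e⟩ := h.le ⟨M, hM, rfl⟩
    exact ⟨M', hM', e.symm⟩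
  obtain ⟨B, hB, hBc⟩ := exists_borel_max hm hF
  rw [← hq] at hBc
  obtain ⟨P', hP', hPd, hPd'⟩ := exists_torus_max hm hF (k := kp)
    (by rw [hkp, hq, hr]; exact Or.inl rfl)
  obtain ⟨N', hN', hNd, hNd'⟩ := exists_torus_max hm hF (k := km)
    (by rw [hkm, hq, hr]; exact Or.inr rfl)
  obtain ⟨M1, hM1, hM1c⟩ := hSG B hB
  obtain ⟨M2, hM2, hM2c⟩ := hSG P' hP'
  obtain ⟨M3, hM3, hM3c⟩ := hSG N' hN'
  rw [hBc] at hM1c
  rw [← hM2c] at hPd hPd'
  rw [← hM3c] at hNd hNd'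
  have hqev : 2 ∣ q := hq ▸ dvd_pow_self 2 (by omega)
  have hrev : 2 ∣ r := hr ▸ dvd_pow_self 2 (by omega)
  have hcardG : Nat.card G = q ^ 2 * (q ^ 2 + 1) * (q - 1) := by
    have hnpG : ∀ p : ℕ, p.Prime → ∃ M : Subgroup G, IsCoatom M ∧
        ∃ l, l.Prime ∧ l ≠ p ∧ l ∣ Nat.card M := by
      intro p hp
      by_cases hp2 : p = 2
      · obtain ⟨l, hl, hld⟩ := Nat.exists_prime_and_dvd (show kp ≠ 1 by omega)
        refine ⟨M2, hM2, l, hl, ?_, hld.trans hPd⟩
        rintro rfl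
        subst hp2
        rw [Nat.odd_iff] at hop
        omega
      · exact ⟨M1, hM1, 2, Nat.prime_two, Ne.symm hp2, hM1c ▸
          dvd_mul_of_dvd_left (dvd_pow hqev two_ne_zero) _⟩
    apply Nat.dvd_antisymm
    · rw [← hcard]
      refine card_dvd_of_max Nat.card_pos.ne' hnpG fun M hM => ?_
      obtain ⟨M', -, e⟩ := hGS M hM
      exact e ▸ card_subgroup_dvd_card M'
    · rw [← hcard]
      refine card_dvd_of_max Nat.card_pos.ne' (fun p hp => ?_) fun M hM => ?_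
      · obtain ⟨M, hM, l, hl, hlp, hld⟩ := hnpG p hp
        obtain ⟨M', hM', e⟩ := hGS M hM
        exact ⟨M', hM', l, hl, hlp, e ▸ hld⟩
      · obtain ⟨M', -, e⟩ := hSG M hM
        exact e ▸ card_subgroup_dvd_card M'
  have hG3 : ¬ 3 ∣ Nat.card G := by
    rw [hcardG]
    have h1 : q % 3 = 2 := by
      rw [hq, pow_succ, pow_mul, Nat.mul_mod, Nat.pow_mod]
      norm_num
    intro hd
    rcases Nat.prime_three.dvd_mul.1 hd with hd | hd
    · rcases Nat.prime_three.dvd_mul.1 hd with hd | hd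
      · have := Nat.prime_three.dvd_of_dvd_pow hd; omega
      · rw [Nat.dvd_iff_mod_eq_zero, Nat.add_mod, Nat.pow_mod, h1] at hd
        norm_num at hd
    · omega
  -- every normal subgroup is small or big
  have hdich : ∀ N : Subgroup G, N.Normal →
      Nat.card N ∣ 4 ∨ (q ^ 2 + 1 ∣ Nat.card N ∧ Nat.card G ∣ 4 * Nat.card N) := by
    intro N hN
    have hmul : ∀ M : Subgroup G, IsCoatom M → ¬ N ≤ M → Nat.card G ∣ Nat.card M * Nat.card N := by
      intro M hM hle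
      haveI := hN
      have htop : M ⊔ N = ⊤ := hM.2 _ (lt_of_le_of_ne le_sup_left fun e => hle (e ▸ le_sup_right))
      have h1 := Thompson.card_sup_dvd_mul M N
      rwa [htop, Subgroup.card_top] at h1
    have hkpq : Nat.Coprime kp (q ^ 2 * (q - 1)) :=
      Nat.Coprime.mul_right ((hq0.coprime_dvd_left ⟨km, hprod.symm⟩).pow_right 2)
        (hq1.coprime_dvd_left ⟨km, hprod.symm⟩)
    have hkmq : Nat.Coprime km (q ^ 2 * (q - 1)) :=
      Nat.Coprime.mul_right ((hq0.coprime_dvd_left ⟨kp, by rw [← hprod, mul_comm]⟩).pow_right 2)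
        (hq1.coprime_dvd_left ⟨kp, by rw [← hprod, mul_comm]⟩)
    have hGeq : Nat.card G = q ^ 2 * (q - 1) * (kp * km) := by rw [hcardG, hprod]; ring
    by_cases h1 : N ≤ M1
    · left
      have hd : Nat.card N ∣ q ^ 2 * (q - 1) := hM1c ▸ card_dvd_of_le h1
      by_cases h2 : N ≤ M2
      · exact Nat.Coprime.dvd_of_dvd_mul_right (Nat.Coprime.coprime_dvd_left hd hkpq.symm)
          ((card_dvd_of_le h2).trans hPd')
      · exfalso
        have h4 : km ∣ 4 * kp * (q ^ 2 * (q - 1)) :=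
          (Dvd.intro_left (q ^ 2 * (q - 1) * kp) (by rw [hGeq]; ring) : km ∣ Nat.card G).trans
            ((hmul M2 hM2 h2).trans (mul_dvd_mul hPd' hd))
        have h4' : km ∣ 4 := (Nat.Coprime.dvd_of_dvd_mul_right hcop.symm
          (hkmq.dvd_of_dvd_mul_right h4))
        have := Nat.le_of_dvd (by norm_num) h4'
        omega
    · right
      have hd : kp * km ∣ Nat.card N := by
        have := hmul M1 hM1 h1
        rw [hM1c, hGeq] at this
        exact Nat.dvd_of_mul_dvd_mul_left (Nat.mul_pos (pow_pos (by omega) 2) (by omega)) this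
      refine ⟨hprod ▸ hd, ?_⟩
      have hno : ∀ M : Subgroup G, ∀ k k', k * k' ∣ Nat.card N → Nat.card M ∣ 4 * k →
          Odd k' → 1 < k' → 0 < k → ¬ N ≤ M := by
        intro M k k' hkk hMk hodd hk1 hk0 hle
        have h6 : k * k' ∣ k * 4 := mul_comm 4 k ▸ hkk.trans ((card_dvd_of_le hle).trans hMk)
        have h7 := Nat.le_of_dvd (by norm_num) (Nat.dvd_of_mul_dvd_mul_left hk0 h6)
        have h8 := Nat.dvd_of_mul_dvd_mul_left hk0 h6
        rw [Nat.odd_iff] at hodd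
        interval_cases k' <;> omega
      have e2 := hmul M2 hM2 (hno M2 kp km hd hPd' hom (by omega) (by omega))
      have e3 := hmul M3 hM3 (hno M3 km kp (by rwa [mul_comm]) hNd' hop (by omega) (by omega))
      rw [hGeq] at e2 e3 ⊢
      refine Nat.Coprime.mul_dvd_of_dvd_of_dvd ?_ ?_ (dvd_mul_of_dvd_right hd 4)
      · exact (Nat.Coprime.mul_left hkpq hkmq).symm
      · have h6 : q ^ 2 * (q - 1) * (kp * km) ∣ 4 * kp * Nat.card N :=
          e2.trans (mul_dvd_mul_right hPd' _)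
        refine Nat.dvd_of_mul_dvd_mul_right (show 0 < kp by omega) (dvd_trans ?_
          (h6.trans (by rw [mul_right_comm])))
        exact ⟨km, by ring⟩
  haveI : Fact (Nat.Prime 2) := ⟨Nat.prime_two⟩
  have hkp1 : 1 < kp := by omega
  -- the least big normal subgroup
  obtain ⟨D, -, hDmin⟩ := Finite.exists_le_minimal
    (p := fun N : Subgroup G => N.Normal ∧ ¬ Nat.card N ∣ 4) (a := ⊤)
    ⟨inferInstance, fun hd => by
      rw [Subgroup.card_top, hcardG, ← hprod] at hd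
      have := Nat.le_of_dvd (by norm_num) ((dvd_mul_of_dvd_left (dvd_mul_of_dvd_right
        (dvd_mul_right kp km) _) _).trans hd)
      omega⟩
  haveI hDn : D.Normal := hDmin.prop.1
  obtain ⟨hDk, hDidx⟩ := (hdich D hDn).resolve_left hDmin.prop.2
  have hchar : ∀ E : Subgroup D, E.Characteristic → Nat.card E ∣ 4 ∨ E = ⊤ := by
    intro E hE
    by_cases h4 : Nat.card E ∣ 4
    · exact Or.inl h4
    refine Or.inr ?_
    have hle : D ≤ E.map D.subtype := hDmin.2
      (⟨inferInstance, by rwa [card_map_of_injective D.subtype_injective]⟩ :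
        (E.map D.subtype).Normal ∧ ¬ Nat.card (E.map D.subtype) ∣ 4) (map_subtype_le E)
    refine eq_top_iff.2 fun x _ => ?_
    obtain ⟨y, hy, e⟩ := hle x.2
    exact (Subtype.ext e : y = x) ▸ hy
  have hperf : commutator D = ⊤ := by
    rcases hchar (commutator D) inferInstance with h4 | h4
    swap
    · exact h4
    exfalso
    obtain ⟨p, hp, hpd⟩ := Nat.exists_prime_and_dvd (show kp ≠ 1 by omega)
    obtain ⟨s, hs, hsd⟩ := Nat.exists_prime_and_dvd (show km ≠ 1 by omega)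
    haveI := Fact.mk hp
    haveI := Fact.mk hs
    have hps : p ≠ s := fun e => hp.not_dvd_one
      (hcop ▸ Nat.dvd_gcd hpd (e ▸ hsd) : p ∣ 1)
    have hp2 : p ≠ 2 := by
      rintro rfl
      rw [Nat.odd_iff] at hop
      omega
    have hs2 : s ≠ 2 := by
      rintro rfl
      rw [Nat.odd_iff] at hom
      omega
    let ψ : D →* Abelianization D := (powMonoidHom p).comp Abelianization.of
    haveI : ψ.ker.Characteristic := characteristic_iff_le_comap.2 fun φ x hx => by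
      rw [mem_comap, MonoidHom.mem_ker]
      have h1 : (Abelianization.of x) ^ p = 1 := hx
      show (Abelianization.of (φ x)) ^ p = 1
      have h2 : Abelianization.of (φ x) = Abelianization.map φ.toMonoidHom (Abelianization.of x) :=
        (Abelianization.map_of φ.toMonoidHom x).symm
      rw [h2, ← map_pow, h1, map_one]
    have hdiv : p ∣ Nat.card D ∧ s ∣ Nat.card D :=
      ⟨(hpd.trans ⟨km, hprod.symm⟩).trans hDk, (hsd.trans ⟨kp, by rw [← hprod, mul_comm]⟩).trans hDk⟩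
    rcases hchar ψ.ker inferInstance with hk4 | hk4
    · obtain ⟨x, hx⟩ := exists_prime_orderOf_dvd_card' p hdiv.1
      have hxk : x ∈ ψ.ker := by
        show (Abelianization.of x) ^ p = 1
        rw [← map_pow, ← hx, pow_orderOf_eq_one, map_one]
      have h6 : p ∣ 2 ^ 2 := (hx ▸ Subgroup.orderOf_dvd_natCard _ hxk).trans (by simpa using hk4)
      exact hp2 ((Nat.prime_dvd_prime_iff_eq hp Nat.prime_two).1 (hp.dvd_of_dvd_pow h6))
    · obtain ⟨y, hy⟩ := exists_prime_orderOf_dvd_card' s hdiv.2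
      have hyk : y ^ p ∈ commutator D := by
        have h6 : ψ y = 1 := (hk4 ▸ mem_top y : y ∈ ψ.ker)
        rw [← Abelianization.ker_of, MonoidHom.mem_ker, map_pow]
        exact h6
      have h7 : orderOf (y ^ p) = s := by
        rw [Nat.Coprime.orderOf_pow (hy ▸ ((Nat.coprime_primes hs hp).2 (Ne.symm hps))), hy]
      have h6 : s ∣ 2 ^ 2 := (h7 ▸ Subgroup.orderOf_dvd_natCard _ hyk).trans (by simpa using h4)
      exact hs2 ((Nat.prime_dvd_prime_iff_eq hs Nat.prime_two).1 (hs.dvd_of_dvd_pow h6))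
  haveI : Nontrivial D := by
    rw [← Finite.one_lt_card_iff_nontrivial]
    by_contra hle
    have : 0 < Nat.card D := Nat.card_pos
    exact hDmin.prop.2 (show Nat.card D ∣ 4 by rw [show Nat.card D = 1 by omega]; norm_num)
  -- a simple quotient
  obtain ⟨L, -, hLmax⟩ := Finite.exists_le_maximal
    (p := fun K : Subgroup D => K.Normal ∧ K ≠ ⊤) (a := ⊥) ⟨inferInstance, bot_ne_top⟩
  haveI hLn : L.Normal := hLmax.prop.1
  haveI : Nontrivial (D ⧸ L) := QuotientGroup.nontrivial_iff.2 hLmax.prop.2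
  haveI hsimple : IsSimpleGroup (D ⧸ L) := ⟨fun K hK => by
    by_cases hc : K.comap (QuotientGroup.mk' L) = ⊤
    · refine Or.inr (eq_top_iff.2 fun x _ => ?_)
      obtain ⟨d, rfl⟩ := QuotientGroup.mk'_surjective L x
      exact (hc ▸ mem_top d : d ∈ K.comap (QuotientGroup.mk' L))
    · have hle : L ≤ K.comap (QuotientGroup.mk' L) := fun x hx => by
        rw [mem_comap, show QuotientGroup.mk' L x = 1 from (QuotientGroup.eq_one_iff x).2 hx]
        exact one_mem K
      have h1 := hLmax.2 (y := K.comap (QuotientGroup.mk' L)) ⟨inferInstance, hc⟩ hle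
      refine Or.inl ((eq_bot_iff_forall _).2 fun x hx => ?_)
      obtain ⟨d, rfl⟩ := QuotientGroup.mk'_surjective L x
      exact (QuotientGroup.eq_one_iff d).2 (h1 hx)⟩
  have hna : ∃ a b : D ⧸ L, a * b ≠ b * a := by
    by_contra hc
    push Not at hc
    apply hLmax.prop.2
    rw [eq_top_iff, ← hperf, _root_.commutator_def, commutator_le]
    intro a _ b _
    rw [← QuotientGroup.eq_one_iff]
    show QuotientGroup.mk' L ⁅a, b⁆ = 1
    rw [map_commutatorElement, commutatorElement_eq_one_iff_mul_comm]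
    exact hc _ _
  have hiso := h3 (D ⧸ L) hna fun hd =>
    hG3 (hd.trans ((card_quotient_dvd_card L).trans (card_subgroup_dvd_card D)))
  obtain ⟨F0, iF, iT, k, hk, hF0, ⟨eS⟩⟩ := hiso
  set K := Nat.card (D ⧸ L) with hKdef
  have hKc : K = (2 ^ (2 * k + 1)) ^ 2 * ((2 ^ (2 * k + 1)) ^ 2 + 1) * (2 ^ (2 * k + 1) - 1) := by
    rw [hKdef, Nat.card_congr (eS.trans (RankOne.SzBridge.szEquiv hF0 hk).symm).toEquiv,
      Suzuki.card_Sz hF0 hk]
  -- intersections of conjugates of `L`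
  let cj : G → Subgroup D := fun g => L.comap (MulAut.conjNormal g).toMonoidHom
  have hcj : ∀ s : Finset G, (s.inf cj).Normal ∧ ∃ i, (s.inf cj).index = K ^ i ∧ (i = 0 → s.inf cj = ⊤) := by
    intro s
    induction s using Finset.induction with
    | empty =>
      rw [Finset.inf_empty]
      exact ⟨inferInstance, 0, by simp, fun _ => rfl⟩
    | insert g s hg ih =>
      obtain ⟨hn, i, hi, hi0⟩ := ih
      haveI := hn
      haveI : (cj g).Normal := hLn.comap _
      rw [Finset.inf_insert]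
      refine ⟨inferInstance, ?_⟩
      have hcjK : (cj g).index = K := by
        show (L.comap _).index = _
        exact (L.index_comap_of_surjective (MulAut.conjNormal g).surjective).trans L.index_eq_card
      by_cases hle : s.inf cj ≤ cj g
      · rw [inf_eq_right.2 hle]
        exact ⟨i, hi, hi0⟩
      · have hsup : s.inf cj ⊔ cj g = ⊤ := by
          let α : D ≃* D := MulAut.conjNormal g
          have h1 : L ≤ (s.inf cj ⊔ cj g).map α.toMonoidHom := fun x hx =>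
            ⟨α.symm x, mem_sup_right (show α (α.symm x) ∈ L by rwa [α.apply_symm_apply]),
              α.apply_symm_apply x⟩
          by_contra hne
          haveI : ((s.inf cj ⊔ cj g).map α.toMonoidHom).Normal :=
            (inferInstance : (s.inf cj ⊔ cj g).Normal).map _ α.surjective
          have h2 := hLmax.2 (y := (s.inf cj ⊔ cj g).map α.toMonoidHom) ⟨inferInstance, fun e =>
            hne (eq_top_iff.2 fun x _ => by
              obtain ⟨y, hy, hyx⟩ := (e ▸ mem_top (α x) : α x ∈ (s.inf cj ⊔ cj g).map α.toMonoidHom)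
              exact (α.injective hyx) ▸ hy)⟩ h1
          exact hle fun x hx => h2 ⟨x, mem_sup_left hx, rfl⟩
        refine ⟨i + 1, ?_, fun h => absurd h (Nat.succ_ne_zero i)⟩
        have h1 : (cj g ⊓ s.inf cj).index = (cj g).relIndex (s.inf cj) * (s.inf cj).index := by
          rw [← inf_relIndex_right, relIndex_mul_index inf_le_right]
        rw [h1, ← relIndex_sup_right (K := cj g) (H := s.inf cj), hsup, relIndex_top_right, hcjK,
          hi, pow_succ']
  haveI := Fintype.ofFinite G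
  obtain ⟨hCn, i, hi, hi0⟩ := hcj (Finset.univ : Finset G)
  set C := (Finset.univ : Finset G).inf cj with hCdef
  have hmemC : ∀ x : D, x ∈ C ↔ ∀ g : G, MulAut.conjNormal g x ∈ L := by
    intro x
    simp [hCdef, Finset.inf_eq_iInf, mem_iInf, cj]
  haveI : (C.map D.subtype).Normal := ⟨by
    rintro _ ⟨y, hy, rfl⟩ g
    refine ⟨MulAut.conjNormal g y, (hmemC _).2 fun g' => ?_, by simp⟩
    have h1 := (hmemC y).1 hy (g' * g)
    rwa [map_mul] at h1⟩
  have hCL : C ≤ L := fun x hx => by simpa using (hmemC x).1 hx 1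
  have hCtop : C ≠ ⊤ := fun e => hLmax.prop.2 (top_le_iff.1 (e ▸ hCL))
  have hi1 : 1 ≤ i := Nat.one_le_iff_ne_zero.2 fun e => hCtop (hi0 e)
  have hC4 : Nat.card C ∣ 2 ^ 2 := by
    rw [show (2 : ℕ) ^ 2 = 4 from rfl]
    by_contra h4
    have hle : D ≤ C.map D.subtype := hDmin.2
      (⟨inferInstance, by rwa [card_map_of_injective D.subtype_injective]⟩ :
        (C.map D.subtype).Normal ∧ ¬ Nat.card (C.map D.subtype) ∣ 4) (map_subtype_le C)
    refine hCtop (eq_top_iff.2 fun x _ => ?_)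
    obtain ⟨y, hy, e⟩ := hle x.2
    exact (Subtype.ext e : y = x) ▸ hy
  have hD4 : D.index ∣ 2 ^ 2 := by
    rw [← D.card_mul_index, mul_comm 4] at hDidx
    exact Nat.dvd_of_mul_dvd_mul_left Nat.card_pos hDidx
  obtain ⟨a, -, ha⟩ := (Nat.dvd_prime_pow Nat.prime_two).1 hC4
  obtain ⟨b, -, hb⟩ := (Nat.dvd_prime_pow Nat.prime_two).1 hD4
  have htot : Nat.card G = 2 ^ (a + b) * K ^ i := by
    rw [← D.card_mul_index, ← C.card_mul_index, hi, ha, hb, pow_add]
    ring
  rw [hcardG, hq, hKc] at htot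
  obtain ⟨rfl, hab, hkm⟩ := suzuki_order_eq hm hk hi1 htot.symm
  subst hkm
  obtain ⟨rfl, rfl⟩ : a = 0 ∧ b = 0 := by omega
  have hDtop : D = ⊤ := index_eq_one.1 (by simpa using hb)
  have hLbot : L = ⊥ := by
    apply eq_bot_of_card_eq
    have h1 := L.card_mul_index
    rw [← C.card_mul_index, hi, ha, pow_zero, one_mul, pow_one, L.index_eq_card] at h1
    exact (Nat.mul_eq_right Nat.card_pos.ne').1 h1
  obtain ⟨e2⟩ := CNCit80.nonempty_szCongr
    (FiniteField.ringEquivOfCardEq (K := F0) (K' := F) (by rw [hF0, hF])) (2 ^ (k + 1))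
  exact ⟨(((Subgroup.topEquiv.symm.trans (MulEquiv.subgroupCongr hDtop.symm)).trans
    (QuotientGroup.quotientBot.symm.trans (QuotientGroup.quotientMulEquivOfEq hLbot.symm))).trans
    eS).trans e2⟩

end Cfsg.Agent.ThreePrime89
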