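import Cfsg.Agent.ThreePrime89.Solv
import Cfsg.Agent.BenderCons37.Classify
import Cfsg.Agent.Bender27.Main
import Cfsg.Agent.Suz27.Final
import Cfsg.Agent.Lib.LinearGroup.Card
import Cfsg.Agent.S0280

/-!
Simple groups of order prime to 3 with a strongly embedded subgroup.
-/

set_option autoImplicit false

namespace Cfsg.Agent.ThreePrime89

universe u

theorem three_dvd_sq_sub_one {q : ℕ} (h : ¬ 3 ∣ q) : 3 ∣ q ^ 2 - 1 := by
  have h1 : q ^ 2 % 3 = 1 := by
    rw [Nat.pow_mod]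
    have : q % 3 = 1 ∨ q % 3 = 2 := by omega
    rcases this with e | e <;> rw [e]
  omega

theorem not_three_dvd_two_pow (n : ℕ) : ¬ 3 ∣ 2 ^ n := fun h =>
  absurd (Nat.prime_three.dvd_of_dvd_pow h) (by norm_num)

theorem three_dvd_card_psl {F : Type} [Field F] [Fintype F] {n : ℕ} (hn : 2 ≤ n)
    (hF : Fintype.card F = 2 ^ n) :
    3 ∣ Nat.card (Matrix.ProjectiveSpecialLinearGroup (Fin 2) F) := by
  have h1 := LinearGroup.gcd_mul_card_PSL_two (F := F)
  rw [Nat.card_eq_fintype_card (α := F), hF] at h1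
  have h2 : 3 ∣ 2 ^ n * ((2 ^ n) ^ 2 - 1) :=
    (three_dvd_sq_sub_one (not_three_dvd_two_pow n)).mul_left _
  rw [← h1] at h2
  rcases Nat.prime_three.dvd_mul.1 h2 with h | h
  · exfalso
    have h3 := h.trans (Nat.gcd_dvd_left _ _)
    norm_num at h3
  · exact h

theorem three_dvd_card_psu {F : Type} [Field F] [Fintype F] {n : ℕ}
    (hF : Fintype.card F = (2 ^ n) ^ 2) : 3 ∣ Nat.card (Cfsg.PSU 3 F (2 ^ n)) := by
  have h1 := S0280.result hF 3 (by norm_num)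
  obtain ⟨q, hq⟩ : ∃ q, q = 2 ^ n := ⟨_, rfl⟩
  rw [← hq] at h1 ⊢
  have hq3 : ¬ 3 ∣ q := hq ▸ not_three_dvd_two_pow n
  simp [Finset.prod_range_succ] at h1
  have h2 : Nat.gcd 3 (q + 1) * Nat.card (Cfsg.PSU 3 F q) =
      q ^ 3 * ((q ^ 2 - 1) * (q ^ 3 + 1)) := by
    apply Nat.eq_of_mul_eq_mul_right (show 0 < q + 1 by omega)
    rw [mul_assoc, mul_comm (Nat.card _) (q + 1), h1]
    ring
  have hd := three_dvd_sq_sub_one hq3
  rcases (Nat.dvd_prime Nat.prime_three).1 (Nat.gcd_dvd_left 3 (q + 1)) with h | h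
  · rw [h, one_mul] at h2
    rw [h2]
    exact (hd.mul_right _).mul_left _
  · have hq1 : 3 ∣ q + 1 := h ▸ Nat.gcd_dvd_right 3 (q + 1)
    have hc : 3 ∣ q ^ 3 + 1 := by
      rw [Nat.dvd_iff_mod_eq_zero, Nat.add_mod, Nat.pow_mod, show q % 3 = 2 by omega]
    rw [h] at h2
    have h9 : 3 * 3 ∣ 3 * Nat.card (Cfsg.PSU 3 F q) := by
      rw [h2]
      exact (mul_dvd_mul hd hc).mul_left _
    exact Nat.dvd_of_mul_dvd_mul_left (by norm_num) h9

/-- A simple group of order prime to 3 with a strongly embedded subgroup is a Suzuki group. -/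
theorem isoSuzuki_of_se {G : Type u} [Group G] [Finite G] [IsSimpleGroup G] {H : Subgroup G}
    (hH : Cfsg.IsStronglyEmbedded H) (h3 : ¬ 3 ∣ Nat.card G) : Cfsg.Lie.IsoSuzuki G := by
  rcases BenderCons37.isR1Type_of_simple_se Bender27.benderSplit Suz27.shapeStmt Suz27.uniqStmt hH
    with ⟨F, iF, iT, ⟨n, hn, hF⟩, ⟨e⟩⟩ | hs | ⟨F, iF, iT, n, -, hF, ⟨e⟩⟩
  · exact absurd (Nat.card_congr e.toEquiv ▸ three_dvd_card_psl hn hF) h3
  · exact hs
  · exact absurd (Nat.card_congr e.toEquiv ▸ three_dvd_card_psu hF) h3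

/-- It is enough to find strongly embedded subgroups. -/
theorem simpleThree_of_se (h : ∀ (G : Type u) [Group G] [Finite G] [IsSimpleGroup G],
    (∃ a b : G, a * b ≠ b * a) → ¬ 3 ∣ Nat.card G → ∃ H : Subgroup G, Cfsg.IsStronglyEmbedded H) :
    SimpleThree.{u} := fun G _ _ _ hna h3 => by
  obtain ⟨H, hH⟩ := h G hna h3
  exact isoSuzuki_of_se hH h3

end Cfsg.Agent.ThreePrime89
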