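import Mathlib

/-!
Elementary facts on automorphisms of order dividing three of groups of order prime to three.
-/

set_option autoImplicit false

namespace Cfsg.Agent.ThreePrime89

open Subgroup

set_option linter.style.haveILetI false
set_option linter.unusedSectionVars false

open scoped Pointwise

variable {G : Type*} [Group G]

/-- A map of period three on a finite type of order prime to three has a fixed point. -/
theorem exists_fixed_point {X : Type*} [Finite X] (f : X → X) (hf : ∀ x, f (f (f x)) = x)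
    (h3 : ¬ 3 ∣ Nat.card X) : ∃ x, f x = x := by
  classical
  cases nonempty_fintype X
  haveI : Fact (Nat.Prime 3) := ⟨Nat.prime_three⟩
  let e : Equiv.Perm X := ⟨f, fun x => f (f x), hf, hf⟩
  obtain ⟨x, hx⟩ := Equiv.Perm.exists_fixed_point_of_prime (p := 3) (n := 1)
    (Nat.card_eq_fintype_card (α := X) ▸ h3) (σ := e)
    (Equiv.ext fun x => by simp [pow_succ, e, hf])
  exact ⟨x, hx⟩

theorem apply_three {σ : MulAut G} (hσ : σ ^ 3 = 1) (x : G) : σ (σ (σ x)) = x := by
  have h := DFunLike.congr_fun hσ x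
  simpa [pow_succ] using h

/-- The fixed points of an automorphism. -/
def fixedPts (σ : MulAut G) : Subgroup G := σ.toMonoidHom.eqLocus (MonoidHom.id G)

theorem mem_fixedPts {σ : MulAut G} {x : G} : x ∈ fixedPts σ ↔ σ x = x := Iff.rfl

variable [Finite G]

/-- Fixed points cover the invariant cosets. -/
theorem exists_fixed_mul {σ : MulAut G} (hσ : σ ^ 3 = 1) (N : Subgroup G)
    (hN : ∀ x ∈ N, σ x ∈ N) (h3 : ¬ 3 ∣ Nat.card N) {g : G} (hg : g⁻¹ * σ g ∈ N) :
    ∃ n ∈ N, σ (g * n) = g * n := by
  let f : N → N := fun n => ⟨g⁻¹ * σ g * σ n, mul_mem hg (hN _ n.2)⟩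
  obtain ⟨n, hn⟩ := exists_fixed_point f (fun n => Subtype.ext (by
    simp only [f, map_mul, map_inv, apply_three hσ]
    group)) h3
  refine ⟨n, n.2, ?_⟩
  have h : g⁻¹ * σ g * σ (n : G) = n := congrArg Subtype.val hn
  calc σ (g * (n : G)) = g * (g⁻¹ * σ g * σ (n : G)) := by rw [map_mul]; group
    _ = g * n := by rw [h]

/-- An automorphism fixing a commutator `x⁻¹ σ x` fixes `x`. -/
theorem eq_of_fixed_commutator {σ : MulAut G} (hσ : σ ^ 3 = 1) (h3 : ¬ 3 ∣ Nat.card G) {x : G}
    (h : σ (x⁻¹ * σ x) = x⁻¹ * σ x) : σ x = x := by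
  obtain ⟨f, hf⟩ : ∃ f, x⁻¹ * σ x = f := ⟨_, rfl⟩
  rw [hf] at h
  have h1 : σ x = x * f := by rw [← hf, mul_inv_cancel_left]
  have h2 : x * f ^ 3 = x := by
    conv_rhs => rw [← apply_three hσ x, h1, map_mul, h1, h, map_mul, map_mul, h1, h]
    simp [pow_succ, mul_assoc]
  have h4 : f ^ 3 = 1 := mul_eq_left.1 h2
  have h5 : orderOf f = 1 := ((Nat.dvd_prime Nat.prime_three).1
    (orderOf_dvd_of_pow_eq_one h4)).resolve_right fun e => h3 (e ▸ orderOf_dvd_natCard f)
  rw [h1, orderOf_eq_one_iff.1 h5, mul_one]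

/-- An invariant Sylow subgroup exists. -/
theorem exists_invariant_sylow {σ : MulAut G} (hσ : σ ^ 3 = 1) (h3 : ¬ 3 ∣ Nat.card G)
    (r : ℕ) [Fact r.Prime] :
    ∃ P : Sylow r G, ∀ x ∈ (P : Subgroup G), σ x ∈ (P : Subgroup G) := by
  let f : Sylow r G → Sylow r G := fun P => σ • P
  have hdvd : Nat.card (Sylow r G) ∣ Nat.card G := by
    obtain ⟨P⟩ := (inferInstance : Nonempty (Sylow r G))
    rw [Sylow.card_eq_index_normalizer P]
    exact Subgroup.index_dvd_card _
  obtain ⟨P, hP⟩ := exists_fixed_point f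
    (fun P => by
      show σ • σ • σ • P = P
      rw [← mul_smul, ← mul_smul, show σ * σ * σ = σ ^ 3 by rw [pow_succ, pow_two], hσ, one_smul])
    (fun h => h3 (h.trans hdvd))
  refine ⟨P, fun x hx => ?_⟩
  have h1 : σ • x ∈ σ • (P : Subgroup G) := Subgroup.smul_mem_pointwise_smul x σ _ hx
  have h2 : ((σ • P : Sylow r G) : Subgroup G) = P := congrArg Sylow.toSubgroup hP
  rw [Sylow.pointwise_smul_def] at h2
  rwa [h2] at h1

/-- An invariant subgroup of a characteristic kind is mapped to itself. -/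
theorem map_mem_of_characteristic (σ : MulAut G) (N : Subgroup G) [hN : N.Characteristic] :
    ∀ x ∈ N, σ x ∈ N := fun x hx => by
  have h := Subgroup.characteristic_iff_map_eq.1 hN σ
  exact h ▸ ⟨x, hx, rfl⟩

/-- The automorphism induced on the quotient by a characteristic subgroup. -/
def quotAut (N : Subgroup G) [N.Normal] [hN : N.Characteristic] : MulAut G →* MulAut (G ⧸ N) where
  toFun σ := QuotientGroup.congr N N σ (Subgroup.characteristic_iff_map_eq.1 hN σ)
  map_one' := by
    ext x
    induction x using QuotientGroup.induction_on with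
    | H g => rfl
  map_mul' σ τ := by
    ext x
    induction x using QuotientGroup.induction_on with
    | H g => rfl

theorem quotAut_mk (N : Subgroup G) [N.Normal] [N.Characteristic] (σ : MulAut G) (g : G) :
    quotAut N σ (QuotientGroup.mk' N g) = QuotientGroup.mk' N (σ g) := rfl

end Cfsg.Agent.ThreePrime89
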