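import Cfsg.Agent.ThreePrime72.Defs
import Cfsg.Agent.ThreePrime89.Closing

/-!
The induction closing the recognition of the Suzuki groups among the simple groups of order prime
to 3.
-/

set_option autoImplicit false

namespace Cfsg.Agent.ThreePrime89

universe u

/-- Strongly embedded subgroups of minimal counterexamples are enough. -/
theorem finalStmt : ThreePrime72.FinalStmt.{u} := by
  intro hse
  suffices h : ∀ (n : ℕ) (G : Type u) [Group G] [Finite G] [IsSimpleGroup G], Nat.card G = n →
      (∃ a b : G, a * b ≠ b * a) → ¬ 3 ∣ Nat.card G → Cfsg.Lie.IsoSuzuki G from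
    fun G _ _ _ => h _ G rfl
  intro n
  induction n using Nat.strong_induction_on with
  | _ n ih =>
    intro G _ _ _ hn hna h3
    obtain ⟨H, hH⟩ := hse G ⟨inferInstance, hna, h3,
      fun K _ _ _ hK => ih _ (hn ▸ hK) K rfl⟩
    exact isoSuzuki_of_se hH h3

end Cfsg.Agent.ThreePrime89
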