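import Cfsg.Agent.ThreePrime89.Common
import Cfsg.Agent.Lib.Coprime.HallHigman
import Cfsg.Agent.Lib.Coprime.Action
import Cfsg.Agent.Lib.Coprime.Hom
import Cfsg.Agent.Lib.PGroup.Basic
import Cfsg.Agent.Lib.Fitting.Minimal
import Cfsg.Agent.Lib.Components.GenFitting
import Cfsg.Agent.Lib.Thompson.Cores

/-!
A solvable group of order prime to three with an automorphism of order three whose fixed points
form an abelian group of odd order: modulo the odd core the Sylow two-subgroup is normal.
-/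

set_option autoImplicit false
set_option linter.style.haveILetI false
set_option linter.unusedSectionVars false

namespace Cfsg.Agent.ThreePrime89

open Subgroup
open scoped commutatorElement

variable {H : Type*} [Group H]

theorem mem_of_char (Q : Subgroup H) [hQ : Q.Characteristic] (α : MulAut H) (x : Q) :
    α (x : H) ∈ Q :=
  (Subgroup.characteristic_iff_map_eq.1 hQ α).le ⟨x, x.2, rfl⟩

/-- Restriction of automorphisms to a characteristic subgroup. -/
def charAut (Q : Subgroup H) [Q.Characteristic] : MulAut H →* MulAut Q where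
  toFun α :=
    { toFun := fun x => ⟨α x, mem_of_char Q α x⟩
      invFun := fun x => ⟨α.symm x, mem_of_char Q α.symm x⟩
      left_inv := fun x => Subtype.ext (α.symm_apply_apply _)
      right_inv := fun x => Subtype.ext (α.apply_symm_apply _)
      map_mul' := fun x y => Subtype.ext (map_mul α _ _) }
  map_one' := rfl
  map_mul' _ _ := rfl

theorem charAut_val (Q : Subgroup H) [Q.Characteristic] (α : MulAut H) (x : Q) :
    ((charAut Q α x : Q) : H) = α x := rfl

variable [Finite H]

/-- The Hall–Higman–Shult step: an invariant odd prime-power subgroup is fixed. -/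
theorem fixes_pgroup [Group.IsSolvable H] (hO : Cfsg.oddCore H = ⊥) (h3 : ¬ 3 ∣ Nat.card H)
    (σ : MulAut H) (hσ : σ ^ 3 = 1) (hodd : ∀ x, σ x = x → Odd (orderOf x))
    {r : ℕ} [Fact r.Prime] (hr : r ≠ 2) (hr3 : r ≠ 3) (R : Subgroup H) (hR : IsPGroup r R)
    (hRi : ∀ x ∈ R, σ x ∈ R) : ∀ x ∈ R, σ x = x := by
  classical
  haveI : Fact (Nat.Prime 2) := ⟨Nat.prime_two⟩
  set Q := Cfsg.pCore 2 H with hQ
  have hQp : IsPGroup 2 Q := Thompson.isPGroup_pCore
  have hCQ : centralizer (Q : Set H) ≤ Q := by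
    have h := Cfsg.Agent.Fitting.centralizer_fitting_le (G := H)
    rwa [Cfsg.Agent.Components.fitting_eq_pCore_of_pPrimeCore_eq_bot (p := 2) hO] at h
  let A := zpowers σ
  haveI : Finite A := inferInstance
  let Γ := H ⋊[A.subtype] A
  haveI : Finite Γ := Coprime.finite_semidirect A.subtype
  let toAut : Γ →* MulAut H := SemidirectProduct.lift MulAut.conj A.subtype fun a => by
    refine MonoidHom.ext fun h => MulEquiv.ext fun x => ?_
    simp [MulAut.conj_apply]
  let φ : Γ →* MulAut (Q ⧸ frattini Q) := (quotAut (frattini Q)).comp ((charAut Q).comp toAut)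
  let a : Γ := SemidirectProduct.inr ⟨σ, mem_zpowers σ⟩
  have haut : toAut a = σ := SemidirectProduct.lift_inr _ _ _ _
  have hφa : ∀ k : Q, φ a (QuotientGroup.mk' _ k) = QuotientGroup.mk' _ (charAut Q σ k) :=
    fun k => by
      show quotAut (frattini Q) (charAut Q (toAut a)) (QuotientGroup.mk' _ k) = _
      rw [haut, quotAut_mk]
  have hφx : ∀ (x : H) (k : Q), φ (SemidirectProduct.inl x) (QuotientGroup.mk' _ k) =
      QuotientGroup.mk' _ (charAut Q (MulAut.conj x) k) := fun x k => by
    show quotAut (frattini Q) (charAut Q (toAut (SemidirectProduct.inl x)))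
      (QuotientGroup.mk' _ k) = _
    rw [show toAut (SemidirectProduct.inl x) = MulAut.conj x from
      SemidirectProduct.lift_inl _ _ _ _, quotAut_mk]
  have hQodd : ∀ k : Q, Odd (orderOf (k : H)) → k = 1 := fun k hk => by
    obtain ⟨e, he⟩ := IsPGroup.iff_orderOf.1 hQp k
    rw [orderOf_coe, he] at hk
    rcases Nat.eq_zero_or_pos e with rfl | he'
    · rwa [pow_zero, orderOf_eq_one_iff] at he
    · exact absurd hk (Nat.not_odd_iff_even.2 (Nat.even_pow.2 ⟨even_two, by omega⟩))
  have hfix : ∀ v, φ a v = v → v = 1 := by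
    intro v
    obtain ⟨k, rfl⟩ := QuotientGroup.mk'_surjective (frattini Q) v
    intro hv
    rw [hφa] at hv
    have hQ3 : ¬ 3 ∣ Nat.card Q := fun h => h3 (h.trans (card_subgroup_dvd_card Q))
    have hσQ : (charAut Q σ) ^ 3 = 1 := by rw [← map_pow, hσ, map_one]
    obtain ⟨n, hn, hfx⟩ := exists_fixed_mul hσQ (frattini Q)
      (map_mem_of_characteristic _ _) (fun h => hQ3 (h.trans (card_subgroup_dvd_card _)))
      (g := k) (QuotientGroup.eq.1 hv.symm)
    have h1 : k * n = 1 := hQodd _ (hodd _ (congrArg Subtype.val hfx))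
    rw [eq_inv_of_mul_eq_one_left h1, map_inv, inv_eq_one]
    exact (QuotientGroup.eq_one_iff n).2 hn
  intro x hx
  set y := x * (σ x)⁻¹ with hy
  have hyR : y ∈ R := mul_mem hx (inv_mem (hRi x hx))
  have hcomm : ⁅(SemidirectProduct.inl x : Γ), a⁆ = SemidirectProduct.inl y := by
    rw [commutatorElement_def, hy, map_mul, map_inv, ← map_inv SemidirectProduct.inl]
    have := Coprime.inr_mul_inl_mul_inv A.subtype ⟨σ, mem_zpowers σ⟩ x⁻¹
    rw [map_inv] at this
    simp only [Subgroup.coe_subtype, map_inv] at this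
    rw [mul_assoc, mul_assoc, ← mul_assoc a, map_inv]
    exact congrArg _ this
  have hnorm : a ∈ normalizer ((R.map SemidirectProduct.inl : Subgroup Γ) : Set Γ) := by
    refine Coprime.le_normalizer_of_conj_mem (A := zpowers a) (H := R.map SemidirectProduct.inl) ?_
      (mem_zpowers a)
    intro b hb
    obtain ⟨i, rfl⟩ := (mem_powers_iff_mem_zpowers).2 hb
    rintro _ ⟨z, hz, rfl⟩
    have hi : ∀ i : ℕ, ∀ z ∈ R, (σ ^ i) z ∈ R := fun i => by
      induction i with
      | zero => exact fun z hz => hz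
      | succ i ih =>
        intro z hz
        rw [pow_succ, MulAut.mul_apply]
        exact ih _ (hRi z hz)
    refine ⟨(σ ^ i) z, hi i z hz, ?_⟩
    have := Coprime.inr_mul_inl_mul_inv A.subtype (⟨σ, mem_zpowers σ⟩ ^ i) z
    simp only [map_pow] at this
    exact this.symm
  have key : φ (SemidirectProduct.inl y) = 1 := by
    rw [← hcomm]
    refine LinAct.map_commutator_eq_one (ℓ := 2) (s := r) (p := 3) Nat.prime_three hr3
      (Ne.symm hr) (by norm_num) (fun u v => PGroup.quotient_frattini_commute hQp u v)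
      (fun v => PGroup.quotient_frattini_pow hQp v) φ a ?_ hfix (R.map SemidirectProduct.inl)
      (hR.map _) hnorm (fun h => absurd h hr) ⟨x, hx, rfl⟩
    show (SemidirectProduct.inr _ : Γ) ^ 3 = 1
    rw [← map_pow, show (⟨σ, mem_zpowers σ⟩ : A) ^ 3 = 1 from Subtype.ext hσ, map_one]
  have hcent : zpowers y ≤ centralizer (Q : Set H) := by
    refine Coprime.le_centralizer_of_frattini _ Q ?_ ?_ fun b hb k hk => ?_
    · rw [Subgroup.normalizer_eq_top]; exact le_top
    · obtain ⟨i, hi⟩ := IsPGroup.iff_card.1 (hR.to_le (zpowers_le.2 hyR))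
      obtain ⟨j, hj⟩ := IsPGroup.iff_card.1 (hQp.to_subgroup (frattini Q))
      rw [hi, hj]
      exact Nat.Coprime.pow _ _ ((Nat.coprime_primes Fact.out Nat.prime_two).2 hr)
    · obtain ⟨i, rfl⟩ := (mem_powers_iff_mem_zpowers).2 hb
      have h1 : φ (SemidirectProduct.inl (y ^ i)) = 1 := by rw [map_pow, map_pow, key, one_pow]
      have h2 := hφx (y ^ i) ⟨k, hk⟩
      rw [h1, MulAut.one_apply] at h2
      have h4 := (inferInstance : (frattini Q).Normal).conj_mem _ (QuotientGroup.eq.1 h2) ⟨k, hk⟩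
      refine ⟨_, h4, ?_⟩
      rw [mul_inv_cancel_left]
      rfl
  have hy1 : y = 1 := by
    have h1 : y ∈ Q := hCQ (hcent (mem_zpowers y))
    refine congrArg Subtype.val (hQodd ⟨y, h1⟩ ?_)
    obtain ⟨e, he⟩ := IsPGroup.iff_orderOf.1 hR ⟨y, hyR⟩
    show Odd (orderOf y)
    rw [← Subgroup.orderOf_mk y hyR, he]
    exact ((Fact.out : r.Prime).odd_of_ne_two hr).pow
  exact (mul_inv_eq_one.1 hy1).symm

/-- Modulo `O₂` nothing is moved. -/
theorem structure_of_fixed_abelian [Group.IsSolvable H] (hO : Cfsg.oddCore H = ⊥)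
    (h3 : ¬ 3 ∣ Nat.card H) (σ : MulAut H) (hσ : σ ^ 3 = 1)
    (hodd : ∀ x, σ x = x → Odd (orderOf x))
    (hab : ∀ x y, σ x = x → σ y = y → x * y = y * x) :
    ¬ 2 ∣ (Cfsg.pCore 2 H).index ∧ ∀ h : H, h⁻¹ * σ h ∈ Cfsg.pCore 2 H := by
  classical
  haveI : Fact (Nat.Prime 2) := ⟨Nat.prime_two⟩
  set Q := Cfsg.pCore 2 H with hQ
  set σ' := quotAut Q σ with hσ'def
  have hσ' : σ' ^ 3 = 1 := by rw [hσ'def, ← map_pow, hσ, map_one]
  have hX3 : ¬ 3 ∣ Nat.card (H ⧸ Q) := fun h => h3 (h.trans (card_quotient_dvd_card Q))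
  have hCidx : ∀ r : ℕ, r.Prime → r ≠ 2 → ¬ r ∣ (fixedPts σ).index := by
    intro r hr hr2 hd
    haveI := Fact.mk hr
    obtain ⟨P, hP⟩ := exists_invariant_sylow hσ h3 r
    by_cases hr3 : r = 3
    · subst hr3; exact h3 (hd.trans (index_dvd_card _))
    exact P.not_dvd_index (hd.trans (index_dvd_of_le
      (fixes_pgroup hO h3 σ hσ hodd hr2 hr3 _ P.2 hP)))
  set C := fixedPts σ' with hC
  have hmap : (fixedPts σ).map (QuotientGroup.mk' Q) = C := by
    refine le_antisymm ?_ fun x hx => ?_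
    · rintro _ ⟨g, hg, rfl⟩
      exact (quotAut_mk Q σ g).trans (congrArg _ hg)
    · obtain ⟨g, rfl⟩ := QuotientGroup.mk'_surjective Q x
      have hx' : QuotientGroup.mk' Q (σ g) = QuotientGroup.mk' Q g := hx
      obtain ⟨n, hn, hf⟩ := exists_fixed_mul hσ Q (map_mem_of_characteristic σ Q)
        (fun h => h3 (h.trans (card_subgroup_dvd_card Q))) (g := g) (QuotientGroup.eq.1 hx'.symm)
      refine ⟨g * n, hf, ?_⟩
      rw [map_mul, show QuotientGroup.mk' Q n = 1 from (QuotientGroup.eq_one_iff n).2 hn, mul_one]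
  have hC2 : ¬ 2 ∣ Nat.card C := by
    intro hd
    rw [← hmap] at hd
    obtain ⟨x, hx⟩ := exists_prime_orderOf_dvd_card' 2 (hd.trans (card_map_dvd _ _))
    have h := hodd (x : H) x.2
    rw [orderOf_coe, hx] at h
    exact Nat.not_odd_iff_even.2 even_two h
  have hCab : ∀ x ∈ C, ∀ y ∈ C, x * y = y * x := by
    rw [← hmap]
    rintro _ ⟨x, hx, rfl⟩ _ ⟨y, hy, rfl⟩
    rw [← map_mul, ← map_mul, hab x y hx hy]
  set F := Cfsg.fittingSubgroup (H ⧸ Q) with hF
  haveI hFn : Group.IsNilpotent F := Cfsg.Agent.Fitting.fitting_isNilpotent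
  have hF2 : ¬ 2 ∣ Nat.card F := by
    intro hd
    obtain ⟨P⟩ := (inferInstance : Nonempty (Sylow 2 F))
    haveI : (P : Subgroup F).Normal :=
      P.normal_of_normalizerCondition Group.normalizerCondition_of_isNilpotent
    haveI : (P : Subgroup F).Characteristic := P.characteristic_of_normal inferInstance
    have h1 : (P : Subgroup F).map F.subtype ≤ Cfsg.pCore 2 (H ⧸ Q) :=
      Thompson.le_pCore (Thompson.map_subtype_normal_of_characteristic F _) (P.2.map _)
    replace h1 := le_bot_iff.1 (h1.trans (le_of_eq Thompson.pCore_quotient_pCore))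
    rw [Subgroup.map_eq_bot_iff_of_injective _ F.subtype_injective] at h1
    have := P.dvd_card_of_dvd_card hd
    rw [h1, Subgroup.card_bot] at this
    omega
  have hFC : F ≤ C := by
    set K := C ⊔ F with hK
    have hK2 : ¬ 2 ∣ Nat.card K := fun h =>
      (Nat.prime_two.dvd_mul.1 (h.trans (Thompson.card_sup_dvd_mul C F))).elim hC2 hF2
    have h1 : C.relIndex K = 1 := by
      by_contra hne
      obtain ⟨r, hr, hd⟩ := Nat.exists_prime_and_dvd hne
      by_cases hr2 : r = 2
      · subst hr2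
        exact hK2 (hd.trans (relIndex_dvd_card C K))
      · refine hCidx r hr hr2 ?_
        have h2 : C.relIndex K ∣ C.index :=
          ⟨K.index, (relIndex_mul_index (le_sup_left : C ≤ K)).symm⟩
        refine (hd.trans h2).trans ?_
        rw [← hmap]
        exact index_map_dvd _ (QuotientGroup.mk'_surjective Q)
    exact le_sup_right.trans (relIndex_eq_one.1 h1)
  have hCF : C ≤ F := fun c hc => Cfsg.Agent.Fitting.centralizer_fitting_le
    (mem_centralizer_iff.2 fun f hf => hCab f (hFC hf) c hc)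
  have hall : ∀ x : H ⧸ Q, σ' x = x := by
    intro x
    refine eq_of_fixed_commutator hσ' hX3 (hFC (Cfsg.Agent.Fitting.centralizer_fitting_le
      (mem_centralizer_iff.2 fun f hf => ?_)))
    have hg : x * f * x⁻¹ ∈ C :=
      hFC ((inferInstance : F.Normal).conj_mem f hf x)
    have hg' : σ' (x * f * x⁻¹) = x * f * x⁻¹ := hg
    rw [map_mul, map_mul, map_inv, show σ' f = f from hFC hf] at hg'
    calc f * (x⁻¹ * σ' x) = x⁻¹ * (x * f * x⁻¹) * σ' x := by group
      _ = x⁻¹ * (σ' x * f * (σ' x)⁻¹) * σ' x := by rw [hg']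
      _ = x⁻¹ * σ' x * f := by group
  refine ⟨fun hd => hC2 ?_, fun h => QuotientGroup.eq.1 ((hall (QuotientGroup.mk' Q h)).symm)⟩
  rw [show C = ⊤ from eq_top_iff.2 fun x _ => hall x, Subgroup.card_top]
  exact hd

end Cfsg.Agent.ThreePrime89
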