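import Cfsg.Agent.S0329
import Cfsg.Agent.S0333
import Cfsg.Agent.S2238
import Cfsg.Agent.S2247
import Cfsg.Agent.S2251
import Cfsg.Agent.Lib.Suzuki.Tori

/-!
Some maximal subgroups of the Suzuki groups and the arithmetic of their orders.
-/

set_option autoImplicit false
set_option linter.style.haveILetI false

namespace Cfsg.Agent.ThreePrime89

open Subgroup

/-- Facts about the two numbers `q ± r + 1`. -/
theorem torus_arith {m : ℕ} (hm : 1 ≤ m) {q r kp km : ℕ} (hq : q = 2 ^ (2 * m + 1))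
    (hr : r = 2 ^ (m + 1)) (hkp : kp = q + r + 1) (hkm : km = q - r + 1) :
    kp * km = q ^ 2 + 1 ∧ Odd kp ∧ Odd km ∧ 5 ≤ km ∧ km < kp ∧ Nat.Coprime kp km ∧
      Nat.Coprime (q ^ 2 + 1) (q - 1) ∧ Nat.Coprime (q ^ 2 + 1) q ∧ 8 ≤ q ∧ r * r = 2 * q := by
  have hrr : r * r = 2 * q := by
    rw [hq, hr, ← pow_add, ← pow_succ']
    congr 1
    omega
  have hq8 : 8 ≤ q := by
    rw [hq]
    calc 8 = 2 ^ 3 := by norm_num
      _ ≤ _ := Nat.pow_le_pow_right two_pos (by omega)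
  have hr4 : 4 ≤ r := by
    rw [hr]
    calc 4 = 2 ^ 2 := by norm_num
      _ ≤ _ := Nat.pow_le_pow_right two_pos (by omega)
  have hrq : r < q := by nlinarith
  have hreven : 2 ∣ r := hr ▸ dvd_pow_self 2 (by omega)
  have hqeven : 2 ∣ q := hq ▸ dvd_pow_self 2 (by omega)
  have hop : Odd kp := Nat.odd_iff.2 (by omega)
  have hom : Odd km := Nat.odd_iff.2 (by omega)
  refine ⟨?_, hop, hom, ?_, by omega, ?_, ?_, ?_, hq8, hrr⟩
  · rw [hkp, hkm]
    zify [hrq.le] at hrr ⊢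
    linear_combination -hrr
  · rcases Nat.lt_or_ge m 2 with hm2 | hm2
    · obtain rfl : m = 1 := by omega
      norm_num at hq hr
      omega
    · have h2 : 2 * r ≤ q := by
        rw [hq, hr, ← pow_succ']
        exact Nat.pow_le_pow_right two_pos (by omega)
      omega
  · have hd : Nat.gcd kp km ∣ 2 * r := by
      have h := Nat.dvd_sub (Nat.gcd_dvd_left kp km) (Nat.gcd_dvd_right kp km)
      rwa [show kp - km = 2 * r by omega] at h
    have hd2 : Nat.gcd kp km ∣ 2 ^ (m + 2) := by rwa [hr, ← pow_succ'] at hd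
    obtain ⟨i, -, hi⟩ := (Nat.dvd_prime_pow Nat.prime_two).1 hd2
    rcases Nat.eq_zero_or_pos i with rfl | hi0
    · simpa using hi
    · exfalso
      have h2 : 2 ∣ kp := (hi ▸ dvd_pow_self 2 hi0.ne').trans (Nat.gcd_dvd_left kp km)
      rw [Nat.odd_iff] at hop
      omega
  · have h1 : q ^ 2 + 1 = (q - 1) * (q + 1) + 2 := by
      obtain ⟨t, rfl⟩ : ∃ t, q = t + 1 := ⟨q - 1, by omega⟩
      simp; ring
    have hd : Nat.gcd (q ^ 2 + 1) (q - 1) ∣ 2 := by
      have h2 := Nat.gcd_dvd_left (q ^ 2 + 1) (q - 1)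
      conv at h2 => arg 2; rw [h1]
      exact (Nat.dvd_add_right (dvd_mul_of_dvd_left (Nat.gcd_dvd_right _ _) _)).1 h2
    rcases (Nat.dvd_prime Nat.prime_two).1 hd with h | h
    · exact h
    · have h2 : 2 ∣ q - 1 := h ▸ Nat.gcd_dvd_right _ _
      omega
  · show Nat.gcd (q ^ 2 + 1) q = 1
    rw [Nat.gcd_comm, pow_two, Nat.gcd_mul_left_add_right, Nat.gcd_one_right]

/-- `r = 2^(m+1)` against `q = 2^(2m+1)`. -/
theorem r_cases {m q r : ℕ} (hm : 1 ≤ m) (hq : q = 2 ^ (2 * m + 1)) (hr : r = 2 ^ (m + 1)) :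
    2 ∣ r ∧ 2 ∣ q ∧ ((r = 4 ∧ q = 8) ∨ (4 * r ≤ q ∧ 8 ≤ r)) := by
  refine ⟨hr ▸ dvd_pow_self 2 (by omega), hq ▸ dvd_pow_self 2 (by omega), ?_⟩
  rcases Nat.lt_or_ge m 2 with h | h
  · obtain rfl : m = 1 := by omega
    exact Or.inl ⟨by rw [hr]; norm_num, by rw [hq]; norm_num⟩
  · refine Or.inr ⟨?_, ?_⟩
    · rw [hq, hr, show 4 * 2 ^ (m + 1) = 2 ^ (m + 3) by ring]
      exact Nat.pow_le_pow_right two_pos (by omega)
    · rw [hr]
      calc 8 = 2 ^ 3 := by norm_num
        _ ≤ _ := Nat.pow_le_pow_right two_pos (by omega)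

/-- A torus order does not divide one less than a torus order. -/
theorem not_dvd_pred {q r k k' : ℕ} (hev : 2 ∣ r ∧ 2 ∣ q ∧ ((r = 4 ∧ q = 8) ∨ (4 * r ≤ q ∧ 8 ≤ r)))
    (hk : k = q + r + 1 ∨ k = q - r + 1)
    (hk' : k' = q - 1 ∨ k' = q + r + 1 ∨ k' = q - r + 1) : ¬ k ∣ k' - 1 := by
  rintro ⟨c, hc⟩
  rcases Nat.lt_or_ge c 3 with h | h
  · interval_cases c <;> omega
  · have := Nat.mul_le_mul_left k h
    omega

variable {F : Type*} [Field F] [Fintype F] {m : ℕ} (hm : 1 ≤ m)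
  (hF : Fintype.card F = 2 ^ (2 * m + 1))
include hm hF

/-- A maximal subgroup of order `q²(q - 1)`. -/
theorem exists_borel_max : ∃ M : Subgroup (Cfsg.Sz F m), IsCoatom M ∧
    Nat.card M = (2 ^ (2 * m + 1)) ^ 2 * (2 ^ (2 * m + 1) - 1) := by
  haveI : Fact (Nat.Prime 2) := ⟨Nat.prime_two⟩
  let S := (Suzuki.isPGroup_USub hF).toSylow (Suzuki.index_USub_odd hF hm)
  have hS : (S : Subgroup (Cfsg.Sz F m)) = Suzuki.USub hF := IsPGroup.toSylow_coe _ _
  refine ⟨_, (S2247.result hm hF S).1, ?_⟩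
  rw [hS, Suzuki.normalizer_USub hF hm, S0329.result hm hF]

theorem card_normalizer_sylow (P : Sylow 2 (Cfsg.Sz F m)) :
    Nat.card (normalizer ((P : Subgroup (Cfsg.Sz F m)) : Set (Cfsg.Sz F m))) =
      (2 ^ (2 * m + 1)) ^ 2 * (2 ^ (2 * m + 1) - 1) := by
  haveI : Fact (Nat.Prime 2) := ⟨Nat.prime_two⟩
  let S := (Suzuki.isPGroup_USub hF).toSylow (Suzuki.index_USub_odd hF hm)
  have hS : (S : Subgroup (Cfsg.Sz F m)) = Suzuki.USub hF := IsPGroup.toSylow_coe _ _
  have h1 := Subgroup.card_mul_index (normalizer ((P : Subgroup (Cfsg.Sz F m)) : Set (Cfsg.Sz F m)))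
  have h2 := Subgroup.card_mul_index (normalizer ((S : Subgroup (Cfsg.Sz F m)) : Set (Cfsg.Sz F m)))
  have e1 : Nat.card (Sylow 2 (Cfsg.Sz F m)) =
      (normalizer ((P : Subgroup (Cfsg.Sz F m)) : Set (Cfsg.Sz F m))).index :=
    Sylow.card_eq_index_normalizer P
  have e2 : Nat.card (Sylow 2 (Cfsg.Sz F m)) =
      (normalizer ((S : Subgroup (Cfsg.Sz F m)) : Set (Cfsg.Sz F m))).index :=
    Sylow.card_eq_index_normalizer S
  rw [← e1] at h1
  rw [← e2] at h2
  have h3 : Nat.card (normalizer ((S : Subgroup (Cfsg.Sz F m)) : Set (Cfsg.Sz F m))) =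
      (2 ^ (2 * m + 1)) ^ 2 * (2 ^ (2 * m + 1) - 1) := by
    rw [hS, Suzuki.normalizer_USub hF hm, S0329.result hm hF]
  rw [← h3]
  exact Nat.eq_of_mul_eq_mul_right Nat.card_pos (h1.trans h2.symm)

/-- A maximal subgroup between a torus of order `q ± r + 1` and its normalizer. -/
theorem exists_torus_max {k : ℕ}
    (hk : k ∈ ({2 ^ (2 * m + 1) + 2 ^ (m + 1) + 1, 2 ^ (2 * m + 1) - 2 ^ (m + 1) + 1} : Set ℕ)) :
    ∃ M : Subgroup (Cfsg.Sz F m), IsCoatom M ∧ k ∣ Nat.card M ∧ Nat.card M ∣ 4 * k := by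
  classical
  obtain ⟨q, hq⟩ : ∃ q, q = 2 ^ (2 * m + 1) := ⟨_, rfl⟩
  obtain ⟨r, hr⟩ : ∃ r, r = 2 ^ (m + 1) := ⟨_, rfl⟩
  obtain ⟨hprod, hop, hom, h5, hlt, hcop, hq1, hq0, hq8, hrr⟩ :=
    torus_arith hm hq hr (rfl : q + r + 1 = _) (rfl : q - r + 1 = _)
  rw [← hq, ← hr] at hk
  obtain ⟨U, hcyc, hUk, hUC, hUN⟩ := S0333.result hm hF k (by rw [← hq, ← hr]; exact hk)
  have hk5 : 5 ≤ k := by
    simp only [Set.mem_insert_iff, Set.mem_singleton_iff] at hk
    rcases hk with rfl | rfl <;> omega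
  have hkdvd : k ∣ q ^ 2 + 1 := by
    simp only [Set.mem_insert_iff, Set.mem_singleton_iff] at hk
    rw [← hprod]
    rcases hk with rfl | rfl
    exacts [dvd_mul_right _ _, dvd_mul_left _ _]
  have hkq : Nat.Coprime k (q ^ 2 * (q - 1)) :=
    Nat.Coprime.mul_right ((hq0.coprime_dvd_left hkdvd).pow_right 2) (hq1.coprime_dvd_left hkdvd)
  have hUtop : U ≠ ⊤ := by
    intro h
    have h1 := congrArg (fun X : Subgroup (Cfsg.Sz F m) => Nat.card X) h
    simp only [card_top, hUk, Suzuki.card_Sz hF hm, ← hq] at h1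
    have h2 : k ∣ (q ^ 2 + 1) := hkdvd
    have h4 := Nat.le_of_dvd (by omega) h2
    have h6 : 2 * 1 ≤ q ^ 2 * (q - 1) := Nat.mul_le_mul (by nlinarith) (by omega)
    nlinarith
  obtain ⟨M, hM, hUM⟩ := (eq_top_or_exists_le_coatom U).resolve_left hUtop
  refine ⟨M, hM, hUk ▸ card_dvd_of_le hUM, ?_⟩
  rcases S2251.result hm hF M hM.1 with ⟨P, hP⟩ | ⟨U', hcyc', hU'k, hMU'⟩ |
    ⟨K, iK, iKK, j, hj, hjm, hK, hd, S, ⟨e⟩, hMS⟩
  · exfalso
    have h1 : k ∣ q ^ 2 * (q - 1) := by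
      rw [hq, ← card_normalizer_sylow hm hF P, ← hUk]
      exact card_dvd_of_le (hUM.trans hP)
    have := Nat.eq_one_of_dvd_coprimes hkq dvd_rfl h1
    omega
  · suffices hUU : U' = U by
      subst hUU
      rw [← hUN]
      exact card_dvd_of_le hMU'
    rw [← hq, ← hr] at hU'k
    by_cases hinf : U ⊓ U' = ⊥
    · exfalso
      -- `U` permutes `U' \ {1}` semiregularly
      let X := {x : U' // x ≠ 1}
      have hmem : ∀ u : U, ∀ x : X, (u : Cfsg.Sz F m) * (x.1 : Cfsg.Sz F m) * (u : Cfsg.Sz F m)⁻¹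
          ∈ U' := fun u x => (mem_normalizer_iff.1 (hMU' (hUM u.2)) _).1 x.1.2
      letI : MulAction U X :=
        { smul := fun u x => ⟨⟨_, hmem u x⟩, fun h => x.2 (Subtype.ext (by
            have := congrArg Subtype.val h
            simpa using this))⟩
          one_smul := fun x => Subtype.ext (Subtype.ext (by
            show (1 : Cfsg.Sz F m) * _ * (1 : Cfsg.Sz F m)⁻¹ = _
            simp))
          mul_smul := fun u v x => Subtype.ext (Subtype.ext (by
            show ((u : Cfsg.Sz F m) * v) * _ * ((u : Cfsg.Sz F m) * v)⁻¹ = _ * (_ * _ * _) * _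
            group)) }
      have hfree : ∀ (u : U) (x : X), u • x = x → u = 1 := by
        intro u x hux
        by_contra hu
        have h1 : (u : Cfsg.Sz F m) * x.1 * (u : Cfsg.Sz F m)⁻¹ = x.1 :=
          congrArg (fun z : X => ((z.1 : U') : Cfsg.Sz F m)) hux
        have h2 : ((x.1 : U') : Cfsg.Sz F m) ∈ U := by
          rw [← hUC (u : Cfsg.Sz F m) u.2 (fun h => hu (Subtype.ext h))]
          exact mem_centralizer_singleton_iff.2 (mul_inv_eq_iff_eq_mul.1 h1).symm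
        exact x.2 (Subtype.ext ((mem_bot).1 (hinf ▸ ⟨h2, x.1.2⟩)))
      have hdvd : k ∣ Nat.card X := by
        rw [← hUk]
        haveI : Fintype (Quotient (MulAction.orbitRel U X)) := Fintype.ofFinite _
        rw [Nat.card_congr (MulAction.selfEquivSigmaOrbits U X), Nat.card_sigma]
        refine Finset.dvd_sum fun o _ => ?_
        haveI : MulAction.stabilizer U o.out = ⊥ := eq_bot_iff.2 fun u hu => mem_bot.2 (hfree u _ hu)
        rw [Nat.card_congr (MulAction.orbitEquivQuotientStabilizer U o.out), ← Subgroup.index_eq_card,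
          ‹MulAction.stabilizer U o.out = ⊥›, Subgroup.index_bot]
      have hX : Nat.card X = Nat.card U' - 1 := by
        haveI : Fintype U' := Fintype.ofFinite _
        rw [Nat.card_eq_fintype_card, Nat.card_eq_fintype_card, Fintype.card_subtype_compl,
          Fintype.card_subtype_eq]
      rw [hX] at hdvd
      simp only [Set.mem_insert_iff, Set.mem_singleton_iff] at hk hU'k
      exact not_dvd_pred (r_cases hm hq hr) hk hU'k hdvd
    · obtain ⟨⟨u, hu⟩, hu1⟩ := ne_bot_iff_exists_ne_one.1 hinf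
      have hu1' : u ≠ 1 := fun h => hu1 (Subtype.ext h)
      haveI := hcyc'
      letI := hcyc'.commGroup
      have hle : U' ≤ U := fun x hx => by
        rw [← hUC u hu.1 hu1', mem_centralizer_singleton_iff]
        exact congrArg Subtype.val (mul_comm (⟨x, hx⟩ : U') ⟨u, hu.2⟩)
      have hdvd : Nat.card U' ∣ k := hUk ▸ card_dvd_of_le hle
      refine eq_of_le_of_card_ge hle ?_
      have h3 : Nat.card U' ≠ 1 := fun h => hu1' ((mem_bot).1
        ((eq_bot_of_card_eq U' h) ▸ hu.2))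
      simp only [Set.mem_insert_iff, Set.mem_singleton_iff] at hk hU'k
      rcases hU'k with h | h | h
      · exact absurd (Nat.eq_one_of_dvd_coprimes (hq1.coprime_dvd_left hkdvd) hdvd h.dvd) h3
      · rcases hk with rfl | rfl
        · rw [hUk, h]
        · exact absurd (Nat.eq_one_of_dvd_coprimes hcop h.dvd hdvd) h3
      · rcases hk with rfl | rfl
        · exact absurd (Nat.eq_one_of_dvd_coprimes hcop hdvd h.dvd) h3
        · rw [hUk, h]
  · exfalso
    haveI : IsCyclic U := hcyc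
    obtain ⟨u, hu⟩ := IsCyclic.exists_generator (α := U)
    have huk : orderOf (u : Cfsg.Sz F m) = k := by
      rw [orderOf_coe, orderOf_eq_card_of_forall_mem_zpowers hu, hUk]
    let g : Cfsg.Sz K j := e ⟨u, hMS (hUM u.2)⟩
    have hgk : orderOf g = k := by
      show orderOf (e ⟨(u : Cfsg.Sz F m), _⟩) = k
      rw [MulEquiv.orderOf_eq, Subgroup.orderOf_mk, huk]
    have hg1 : g ≠ 1 := fun h => by rw [h, orderOf_one] at hgk; omega
    obtain ⟨V, ⟨hV, hgV⟩, -⟩ := S2238.result hj hK g hg1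
    rcases hV with ⟨P, rfl⟩ | ⟨-, hVk⟩
    · obtain ⟨i, hi⟩ := IsPGroup.iff_orderOf.1 P.2 ⟨g, hgV⟩
      rw [Subgroup.orderOf_mk, hgk] at hi
      rcases Nat.eq_zero_or_pos i with rfl | hi0
      · simp at hi; omega
      · have h2 : 2 ∣ k := hi ▸ dvd_pow_self 2 hi0.ne'
        have hev : 2 ∣ r ∧ 2 ∣ q := ⟨hr ▸ dvd_pow_self 2 (by omega), hq ▸ dvd_pow_self 2 (by omega)⟩
        simp only [Set.mem_insert_iff, Set.mem_singleton_iff] at hk
        rcases hk with rfl | rfl <;> omega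
    · obtain ⟨q0, hq0'⟩ : ∃ q0, q0 = 2 ^ (2 * j + 1) := ⟨_, rfl⟩
      obtain ⟨r0, hr0⟩ : ∃ r0, r0 = 2 ^ (j + 1) := ⟨_, rfl⟩
      obtain ⟨-, -, -, -, -, -, -, -, hq08, hrr0⟩ :=
        torus_arith hj hq0' hr0 (rfl : q0 + r0 + 1 = _) (rfl : q0 - r0 + 1 = _)
      have hle : k ≤ q0 + r0 + 1 := by
        have h1 : orderOf g ∣ Nat.card V := Subgroup.orderOf_mk g hgV ▸ orderOf_dvd_natCard _
        rw [hgk] at h1
        simp only [Set.mem_insert_iff, Set.mem_singleton_iff, ← hq0', ← hr0] at hVk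
        have hpos : 0 < Nat.card V := Nat.card_pos
        have h4 := Nat.le_of_dvd hpos h1
        rcases hVk with h | h | h <;> omega
      obtain ⟨d, hd'⟩ := hd
      have hd3 : 3 ≤ d := by
        by_contra hd0
        interval_cases d <;> omega
      have h3 : (2 * j + 1) * 3 ≤ 2 * m + 1 := hd' ▸ Nat.mul_le_mul_left _ hd3
      have hq3 : q0 * 8 * 8 ≤ q := by
        have h64 : 2 ^ (2 * j + 1) * 2 ^ 6 ≤ 2 ^ (2 * m + 1) := by
          rw [← pow_add]; exact Nat.pow_le_pow_right two_pos (by omega)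
        rw [hq0', hq]
        omega
      obtain ⟨-, -, hcase⟩ := r_cases hm hq hr
      obtain ⟨-, -, hcase0⟩ := r_cases hj hq0' hr0
      simp only [Set.mem_insert_iff, Set.mem_singleton_iff] at hk
      rcases hk with rfl | rfl <;> omega

end Cfsg.Agent.ThreePrime89
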